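import Groth.Agent.Lib.QcohExt14.Step
import Groth.Agent.Lib.Induction15.Basic
import Groth.Agent.Lib.AlgSpDecent.Basic
import Groth.Agent.S10419

/-!
# Families covering the whole space
-/

universe u

set_option linter.style.haveILetI false
set_option backward.isDefEq.respectTransparency false
set_option backward.isDefEq.respectTransparency.types false

open CategoryTheory CategoryTheory.Limits AlgebraicGeometry Opposite TopologicalSpace

namespace Groth.Agent.QcohExt14

open AlgSp Groth.Agent.QcohEt15 Groth.Agent.AlgSpace Groth.Agent.AlgSpEt14 Groth.Agent.AlgSpDecent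

variable {S : Scheme.{u}}

/-- Two maps to a chart agreeing at a point agree near it. -/
theorem exists_nhd_eq {X : Sp S} {V Z : EtOver X} (a b : Z ⟶ V) (z : ↥Z.obj.left.left)
    (h : Z.obj.left.left.fromSpecResidueField z ≫ a.hom.left.left =
      Z.obj.left.left.fromSpecResidueField z ≫ b.hom.left.left) :
    ∃ (W : EtOver X) (_ : IsAffine W.obj.left.left) (k : W ⟶ Z),
      z ∈ Set.range k.hom.left.left ∧ k ≫ a = k ≫ b := by
  let d : V ⟶ EtOver.prodObj V V := (EtOver.prodIsLimit V V).lift (BinaryFan.mk (𝟙 V) (𝟙 V))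
  let ab : Z ⟶ EtOver.prodObj V V := (EtOver.prodIsLimit V V).lift (BinaryFan.mk a b)
  have hd₁ : d ≫ EtOver.prodFst V V = 𝟙 V := (EtOver.prodIsLimit V V).fac (BinaryFan.mk (𝟙 V) (𝟙 V)) ⟨.left⟩
  have hd₂ : d ≫ EtOver.prodSnd V V = 𝟙 V := (EtOver.prodIsLimit V V).fac (BinaryFan.mk (𝟙 V) (𝟙 V)) ⟨.right⟩
  have ha : ab ≫ EtOver.prodFst V V = a := (EtOver.prodIsLimit V V).fac (BinaryFan.mk a b) ⟨.left⟩
  have hb : ab ≫ EtOver.prodSnd V V = b := (EtOver.prodIsLimit V V).fac (BinaryFan.mk a b) ⟨.right⟩
  haveI : IsSplitMono d.hom.left.left :=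
    IsSplitMono.mk' ⟨(EtOver.prodFst V V).hom.left.left, congrArg (fun m => m.hom.left.left) hd₁⟩
  haveI : Etale d.hom.left.left := EtOver.etale_left d
  haveI : IsOpenImmersion d.hom.left.left := IsOpenImmersion.of_flat_of_mono _
  let T : Over S := Over.mk (Z.obj.left.left.fromSpecResidueField z ≫ Z.obj.left.hom)
  let ξ : T ⟶ Z.obj.left := Over.homMk (Z.obj.left.left.fromSpecResidueField z) rfl
  have hξ : ξ ≫ ab.hom.left = (ξ ≫ a.hom.left) ≫ d.hom.left := by
    refine Functor.relativelyRepresentable.hom_ext' (V.property.1) ?_ ?_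
    · refine (Category.assoc _ _ _).trans ((congrArg (ξ ≫ ·) (congrArg (fun m => m.hom.left) hb)).trans ?_)
      refine Eq.trans ?_ (Category.assoc _ _ _).symm
      refine Eq.trans ?_ ((congrArg ((ξ ≫ a.hom.left) ≫ ·) (congrArg (fun m => m.hom.left) hd₂)).trans
        (Category.comp_id _)).symm
      exact Over.OverMorphism.ext h.symm
    · refine (Category.assoc _ _ _).trans ((congrArg (ξ ≫ ·) (congrArg (fun m => m.hom.left) ha)).trans ?_)
      refine Eq.trans ?_ (Category.assoc _ _ _).symm
      exact ((congrArg ((ξ ≫ a.hom.left) ≫ ·) (congrArg (fun m => m.hom.left) hd₁)).trans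
        (Category.comp_id _)).symm
  have hz : ab.hom.left.left z ∈ d.hom.left.left.opensRange := by
    obtain ⟨p⟩ : Nonempty ↥T.left := inferInstanceAs (Nonempty ↥(Spec (Z.obj.left.left.residueField z)))
    refine ⟨(ξ ≫ a.hom.left).left p, ?_⟩
    exact (congrArg (fun m => m.left p) hξ).symm.trans
      (congrArg ab.hom.left.left (Scheme.fromSpecResidueField_apply _ _))
  obtain ⟨_, ⟨(O : Z.obj.left.left.Opens), hO, rfl⟩, hzO, hle⟩ :=
    Z.obj.left.left.isBasis_affineOpens.exists_subset_of_mem_open hz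
      (ab.hom.left.left ⁻¹ᵁ d.hom.left.left.opensRange).isOpen
  refine ⟨openSub Z O, hO, openSubι Z O, (range_openSubι Z O).symm ▸ hzO,
    EtOver.hom_ext _ _ (Over.OverMorphism.ext ?_)⟩
  have hr : Set.range (O.ι ≫ ab.hom.left.left) ⊆ Set.range d.hom.left.left := by
    rintro _ ⟨x, rfl⟩
    exact hle x.2
  let m := IsOpenImmersion.lift d.hom.left.left (O.ι ≫ ab.hom.left.left) hr
  have hm : m ≫ d.hom.left.left = O.ι ≫ ab.hom.left.left := IsOpenImmersion.lift_fac _ _ _
  have e₁ : O.ι ≫ a.hom.left.left = m := by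
    rw [← ha]
    change O.ι ≫ ab.hom.left.left ≫ (EtOver.prodFst V V).hom.left.left = m
    rw [← reassoc_of% hm]
    exact (congrArg (m ≫ ·) (congrArg (fun q => q.hom.left.left) hd₁)).trans (Category.comp_id _)
  have e₂ : O.ι ≫ b.hom.left.left = m := by
    rw [← hb]
    change O.ι ≫ ab.hom.left.left ≫ (EtOver.prodSnd V V).hom.left.left = m
    rw [← reassoc_of% hm]
    exact (congrArg (m ≫ ·) (congrArg (fun q => q.hom.left.left) hd₂)).trans (Category.comp_id _)
  exact e₁.trans e₂.symm

/-- Maps to a stratum piece agree at points of the stratum. -/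
theorem stratum_eq {U : Space S} {T : Space S} {R : Set (Points U.obj)} {i : T ⟶ U}
    (hi : IsRedInduced Rᶜ i.hom) {V : Over S} {f : (yon S).obj V ⟶ U.obj}
    (hiso : ∀ (P : Sp S) (fst : P ⟶ T.obj) (snd : P ⟶ (yon S).obj V), IsPullback fst snd i.hom f → IsIso fst)
    {Z : Over S} (a b : Z ⟶ V) (e : (yon S).map a ≫ f = (yon S).map b ≫ f) (z : ↥Z.left)
    (hz : Points.ofPt ((yon S).map a ≫ f) z ∉ R) :
    Z.left.fromSpecResidueField z ≫ a.left = Z.left.fromSpecResidueField z ≫ b.left := by
  let K : Over S := Over.mk (Z.left.fromSpecResidueField z ≫ Z.hom)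
  let ξ : K ⟶ Z := Over.homMk (Z.left.fromSpecResidueField z) rfl
  let g : (yon S).obj K ⟶ U.obj := (yon S).map ξ ≫ (yon S).map a ≫ f
  have hpb := hi.1.1.isPullback g
  have hK : ∀ t : ↥K.left, Points.ofPt g t = Points.ofPt ((yon S).map a ≫ f) z := fun t =>
    (ofPt_map_comp ξ ((yon S).map a ≫ f) t).trans
      (congrArg (Points.ofPt ((yon S).map a ≫ f)) (Scheme.fromSpecResidueField_apply _ _))
  haveI : IsClosedImmersion (hi.1.1.snd g).left := hi.1.2 g _ _ hpb
  haveI : Surjective (hi.1.1.snd g).left := ⟨fun t => by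
    obtain ⟨y, hy⟩ : Points.ofPt g t ∈ Set.range (Points.map i.hom) := by
      rw [hi.2.1, hK]
      exact hz
    obtain ⟨v, -, hv⟩ := exists_pt_of_isPullback hpb hy
    exact ⟨v, hv⟩⟩
  haveI : IsReduced K.left := inferInstanceAs (IsReduced (Spec (Z.left.residueField z)))
  haveI : IsIso (hi.1.1.snd g).left := isIso_of_isClosedImmersion_of_surjective _
  haveI : IsIso (hi.1.1.snd g) := by
    haveI : IsIso ((Over.forget S).map (hi.1.1.snd g)) := ‹IsIso (hi.1.1.snd g).left›
    exact isIso_of_reflects_iso _ (Over.forget S)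
  let l : (yon S).obj K ⟶ T.obj := (yon S).map (inv (hi.1.1.snd g)) ≫ hi.1.1.fst g
  have hl : l ≫ i.hom = g := by
    refine (Category.assoc _ _ _).trans ((congrArg ((yon S).map (inv (hi.1.1.snd g)) ≫ ·) hpb.w).trans ?_)
    rw [← Category.assoc, ← Functor.map_comp, IsIso.inv_hom_id]
    exact (congrArg (· ≫ g) ((yon S).map_id K)).trans (Category.id_comp g)
  have sq := IsPullback.of_hasPullback i.hom f
  haveI := hiso _ _ _ sq
  have hl' : l ≫ i.hom = (yon S).map (ξ ≫ b) ≫ f := by
    rw [hl, Functor.map_comp, Category.assoc]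
    exact congrArg ((yon S).map ξ ≫ ·) e
  have hl'' : l ≫ i.hom = (yon S).map (ξ ≫ a) ≫ f := by
    rw [hl, Functor.map_comp, Category.assoc]
  have h2 : pullback.lift l ((yon S).map (ξ ≫ a)) hl'' = pullback.lift l ((yon S).map (ξ ≫ b)) hl' :=
    (cancel_mono (pullback.fst i.hom f)).1 (by rw [pullback.lift_fst, pullback.lift_fst])
  have h3 := congrArg (· ≫ pullback.snd i.hom f) h2
  simp only [pullback.lift_snd] at h3
  exact congrArg (fun m => m.left) ((yon S).map_injective h3)

/-- Induction over affine charts of a quasi-compact quasi-separated space, each chart having diagonal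
self-overlaps away from the earlier ones. -/
theorem chart_induction [QuasiSeparatedSpace ↥S] (X : Space S) (hqc : IsQuasiCompactSp X.obj)
    (hqs : IsQuasiSeparatedSp X.obj) (P : Set (Points X.obj) → Prop) (h0 : P ∅)
    (hstep : ∀ (R : Set (Points X.obj)) (V : EtOver X.obj) [IsAffine V.obj.left.left],
      (∀ (Z : EtOver X.obj) (a b : Z ⟶ V) (z : ↥Z.obj.left.left), Points.ofPt Z.obj.hom z ∉ R →
        ∃ (W : EtOver X.obj) (_ : IsAffine W.obj.left.left) (k : W ⟶ Z),
          z ∈ Set.range k.hom.left.left ∧ k ≫ a = k ≫ b) →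
      P R → P (R ∪ Set.range (Points.ofPt V.obj.hom))) : P Set.univ := by
  classical
  obtain ⟨n, Uo, j, k, T, i, hj, hkj, h1, hemp, hi, hV⟩ := Groth.Agent.S10419.result X hqc hqs
  have key : ∀ q p, p + q = n + 1 → 1 ≤ p →
      ∃ R, P R ∧ Set.range (Points.map (j p).hom) ⊆ R := by
    intro q
    induction q with
    | zero =>
      intro p hp _
      rw [Nat.add_zero] at hp
      subst hp
      refine ⟨∅, h0, ?_⟩
      rintro _ ⟨z, rfl⟩
      exact hemp.elim z
    | succ q ih =>
      intro p hp hp1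
      obtain ⟨R₁, hP₁, hR₁⟩ := ih (p + 1) (by omega) (by omega)
      obtain ⟨V, f, -, hVc, hfe, hfs, hiso⟩ := hV p hp1
      haveI := hVc
      haveI := Induction15.mono_openImm (hj p)
      have hje : RepWith @Etale (f ≫ (j p).hom) :=
        repWith_comp hfe (repWith_mono (fun _ _ g (_ : IsOpenImmersion g) => (inferInstance : Etale g)) (hj p))
      let E : EtOver X.obj := EtOver.mk (f ≫ (j p).hom) hje
      haveI : CompactSpace ↥E.obj.left.left := hVc
      obtain ⟨t, ht⟩ := isCompact_univ.elim_finite_subcover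
        (fun O : E.obj.left.left.affineOpens => (O.1 : Set ↥E.obj.left.left)) (fun O => O.1.isOpen) fun x _ => by
          obtain ⟨_, ⟨(O : E.obj.left.left.Opens), hO, rfl⟩, hxO, -⟩ :=
            E.obj.left.left.isBasis_affineOpens.exists_subset_of_mem_open (Set.mem_univ x) isOpen_univ
          exact Set.mem_iUnion.2 ⟨⟨O, hO⟩, hxO⟩
      have step : ∀ t : Finset E.obj.left.left.affineOpens, ∃ R, P R ∧ R₁ ⊆ R ∧
          ∀ O ∈ t, Set.range (Points.ofPt (openSub E O.1).obj.hom) ⊆ R := by
        intro t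
        induction t using Finset.induction_on with
        | empty => exact ⟨R₁, hP₁, subset_rfl, fun O hO => absurd hO (Finset.notMem_empty O)⟩
        | @insert O t _ iht =>
          obtain ⟨R, hP, hle, hd⟩ := iht
          haveI : IsAffine (openSub E O.1).obj.left.left := O.2
          refine ⟨_, hstep R (openSub E O.1) (fun Z a b z hz => ?_) hP, hle.trans Set.subset_union_left,
            fun O' hO' => ?_⟩
          · let a' : Z.obj.left ⟶ V := (a ≫ openSubι E O.1).hom.left
            let b' : Z.obj.left ⟶ V := (b ≫ openSubι E O.1).hom.left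
            have e : (yon S).map a' ≫ f = (yon S).map b' ≫ f := (cancel_mono (j p).hom).1 (by
              rw [Category.assoc, Category.assoc]
              exact (EtOver.w (a ≫ openSubι E O.1)).trans (EtOver.w (b ≫ openSubι E O.1)).symm)
            have hzR : Points.ofPt ((yon S).map a' ≫ f) z ∉ Set.range (Points.map (k p).hom) := by
              rintro ⟨y, hy⟩
              refine hz (hle (hR₁ ⟨y, ?_⟩))
              rw [← hkj p]
              refine (Points.map_comp (k p).hom (j p).hom y).trans ?_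
              rw [hy, Points.map_ofPt, Category.assoc]
              exact congrArg (Points.ofPt · z) (EtOver.w (a ≫ openSubι E O.1))
            have h := stratum_eq (hi p) hiso a' b' e z hzR
            refine exists_nhd_eq a b z ((cancel_mono O.1.ι).1 ?_)
            rw [Category.assoc, Category.assoc]
            exact h
          · rcases Finset.mem_insert.1 hO' with rfl | hO'
            · exact Set.subset_union_right
            · exact (hd O' hO').trans Set.subset_union_left
      obtain ⟨R, hP, hle, hd⟩ := step t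
      refine ⟨R, hP, ?_⟩
      rintro _ ⟨y, rfl⟩
      obtain ⟨v, rfl⟩ := surjective_ofPt hfs y
      obtain ⟨O, hO, hvO⟩ := Set.mem_iUnion₂.1 (ht (Set.mem_univ v))
      refine hd O hO ⟨⟨v, hvO⟩, ?_⟩
      rw [ofPt_openSub, Points.map_ofPt]
      rfl
  obtain ⟨R, hP, hR⟩ := key n 1 (by omega) le_rfl
  have : IsIso (j 1).hom := inferInstanceAs (IsIso ((ObjectProperty.ι _).map (j 1)))
  rwa [← Set.eq_univ_of_forall fun x => hR ((bijective_map_iso (e := (j 1).hom)).2 x)]

/-- Every family extends to one covering a quasi-compact quasi-separated space. -/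
theorem exists_covering [QuasiSeparatedSpace ↥S] (X : Space S) (hqc : IsQuasiCompactSp X.obj)
    (hqs : IsQuasiSeparatedSp X.obj) {M : ModEt X.obj} [M.IsQuasicoherent] (d₀ : Data M) :
    ∃ d : Data M, d₀.LE d ∧ d.range = Set.univ := by
  obtain ⟨d, hle, hd⟩ := chart_induction X hqc hqs (fun R => ∃ d : Data M, d₀.LE d ∧ R ⊆ d.range)
    ⟨d₀, Data.LE.refl _, Set.empty_subset _⟩ fun R V _ hV ⟨d, hle, hd⟩ => by
      obtain ⟨d', hle', hd', -⟩ := exists_adjoin hqs d V ∅ (fun s hs => absurd hs (Finset.notMem_empty s))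
        fun Z a b z hz => hV Z a b z fun h => hz (hd h)
      exact ⟨d', hle.trans hle', Set.union_subset (hd.trans hle'.range_subset) hd'⟩
  exact ⟨d, hle, Set.eq_univ_of_univ_subset hd⟩

end Groth.Agent.QcohExt14
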