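import Groth.Agent.Lib.QcohExt14.Fam
import Groth.Agent.Lib.QcohExt14.Filt
import Groth.Agent.Lib.QcohEt15.LocColim2

/-!
# Every section of a quasi-coherent module lies in a finite type submodule
-/

universe u

set_option linter.style.haveILetI false
set_option backward.isDefEq.respectTransparency false
set_option backward.isDefEq.respectTransparency.types false

open CategoryTheory CategoryTheory.Limits AlgebraicGeometry Opposite TensorProduct TopologicalSpace

namespace Groth.Agent.QcohExt14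

open AlgSp Groth.Agent.QcohEt15 Groth.Agent.AlgSpace Groth.Agent.AlgSpEt14 Groth.Agent.AlgSpDecent

variable {S : Scheme.{u}} {X : Sp S} {M : ModEt X}

theorem Fam.res_mem (P : Fam M) {E E' : EtOver X} [IsAffine E.obj.left.left] [IsAffine E'.obj.left.left]
    (g : E' ⟶ E) {s : sectModEt M E} (h : s ∈ P.P E) : res M g s ∈ P.P E' :=
  (P.span E E' g).le (res_mem_spanT g h)

theorem Fam.mem_of_local [M.IsQuasicoherent] (P : Fam M) {E : EtOver X} [IsAffine E.obj.left.left]
    (s : sectModEt M E) {κ : Type*} (Z : κ → EtOver X) (g : ∀ k, Z k ⟶ E)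
    [∀ k, IsAffine (Z k).obj.left.left] (hc : ∀ v : ↥E.obj.left.left, ∃ k, v ∈ Set.range (g k).hom.left.left)
    (h : ∀ k, res M (g k) s ∈ P.P (Z k)) : s ∈ P.P E := by
  refine mem_submodule_of_local (good_of_isQuasicoherent E) _ s (Sieve.generate (Presieve.ofArrows Z g))
    (ofArrows_mem_etTop Z g hc) fun W _ k hk => ?_
  obtain ⟨_, a, _, ⟨i⟩, rfl⟩ := hk
  rw [← mem_spanT_iff, spanT_comp, res_comp, P.span E (Z i) (g i)]
  exact res_mem_spanT a (h i)

theorem Fam.exists_upper {κ : Type*} [Finite κ] (P : κ → Fam M) :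
    ∃ Q : Fam M, ∀ k (E : EtOver X), (P k).P E ≤ Q.P E := by
  classical
  have := Fintype.ofFinite κ
  suffices h : ∀ t : Finset κ, ∃ Q : Fam M, ∀ k ∈ t, ∀ E : EtOver X, (P k).P E ≤ Q.P E by
    obtain ⟨Q, hQ⟩ := h Finset.univ
    exact ⟨Q, fun k => hQ k (Finset.mem_univ k)⟩
  intro t
  induction t using Finset.induction_on with
  | empty => exact ⟨Fam.zero, fun k hk => absurd hk (Finset.notMem_empty k)⟩
  | @insert a t _ ih =>
    obtain ⟨Q, hQ⟩ := ih
    refine ⟨Fam.sup (P a) Q, fun k hk E => ?_⟩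
    rcases Finset.mem_insert.1 hk with rfl | hk
    · exact le_sup_left
    · exact (hQ k hk E).trans le_sup_right

/-- A morphism whose values lie in a submodule on affine objects factors through it. -/
theorem exists_liftMono {G K : ModEt X} (g : G ⟶ M) [Mono g] (φ : K ⟶ M)
    (h : ∀ (E : EtOver X) [IsAffine E.obj.left.left], LinearMap.range (appₗ φ E) ≤ LinearMap.range (appₗ g E)) :
    ∃ l : K ⟶ G, l ≫ g = φ := by
  have hex : ∀ (E : EtOver X) (s : sectModEt K E), ∃ y : sectModEt G E, appₗ g E y = appₗ φ E s := fun E s => by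
    let O : ULift.{u + 1} E.obj.left.left.affineOpens → EtOver X := fun U => openSub E U.down.1
    haveI hO : ∀ U, IsAffine (O U).obj.left.left := fun U => U.down.2
    have hy : ∀ U, ∃ y : sectModEt G (O U), appₗ g (O U) y = appₗ φ (O U) (res K (openSubι E U.down.1) s) :=
      fun U => h (O U) ⟨_, rfl⟩
    choose y hy using hy
    have hcov : ∀ x : ↥E.obj.left.left, ∃ U, x ∈ Set.range (openSubι E (ULift.down U : E.obj.left.left.affineOpens).1).hom.left.left :=
      fun x => by
        obtain ⟨_, ⟨(W : E.obj.left.left.Opens), hW, rfl⟩, hxW, -⟩ :=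
          E.obj.left.left.isBasis_affineOpens.exists_subset_of_mem_open (Set.mem_univ x) isOpen_univ
        exact ⟨⟨⟨W, hW⟩⟩, (range_openSubι E W).symm ▸ hxW⟩
    obtain ⟨m, hm⟩ := exists_glue_family G O (fun U => openSubι E U.down.1) hcov y fun i j Z a b e => by
      refine appₗ_injective g Z ?_
      rw [appₗ_res, appₗ_res, hy, hy, ← appₗ_res, ← appₗ_res, ← res_comp, ← res_comp, e]
    refine ⟨m, sections_ext_family M O (fun U => openSubι E U.down.1) hcov fun U => ?_⟩
    rw [← appₗ_res, hm, hy, appₗ_res]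
  choose y hy using hex
  let l : K ⟶ G := ⟨PresheafOfModules.homMk
    { app := fun E => AddCommGrpCat.ofHom (AddMonoidHom.mk' (fun s => y E.unop s) fun a b =>
        appₗ_injective g E.unop (by rw [map_add]; exact (hy _ _).trans ((map_add _ _ _).trans
          (congrArg₂ (· + ·) (hy _ a).symm (hy _ b).symm))))
      naturality := fun {E E'} k => by
        ext s
        refine appₗ_injective g E'.unop ?_
        exact (hy _ _).trans ((appₗ_res φ k.unop s).trans
          ((congrArg (res M k.unop) (hy _ s).symm).trans (appₗ_res g k.unop _).symm)) }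
    fun E r s => appₗ_injective g E.unop (((hy _ _).trans (((appₗ φ E.unop).map_smul (ULift.down r) s).trans
      (congrArg ((ULift.down r : Γo E.unop) • ·) (hy _ s).symm))).trans
        ((appₗ g E.unop).map_smul (ULift.down r) _).symm)⟩
  refine ⟨l, SheafOfModules.hom_ext (PresheafOfModules.hom_ext fun E => ?_)⟩
  ext s
  exact hy _ s

/-- All sections over affine objects above a part of the space lie in finite type families. -/
def HasFams (M : ModEt X) (R : Set (Points X)) : Prop :=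
  ∀ (E : EtOver X), IsAffine E.obj.left.left → Set.range (Points.ofPt E.obj.hom) ⊆ R →
    ∀ s : sectModEt M E, ∃ P : Fam M, s ∈ P.P E

/-- Locally a finite type family suffices. -/
theorem Fam.exists_of_cover [M.IsQuasicoherent] {E : EtOver X} [IsAffine E.obj.left.left]
    (s : sectModEt M E) {κ : Type*} [Finite κ] (Z : κ → EtOver X) (g : ∀ k, Z k ⟶ E)
    [∀ k, IsAffine (Z k).obj.left.left] (hc : ∀ v : ↥E.obj.left.left, ∃ k, v ∈ Set.range (g k).hom.left.left)
    (h : ∀ k, ∃ P : Fam M, res M (g k) s ∈ P.P (Z k)) : ∃ P : Fam M, s ∈ P.P E := by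
  choose P hP using h
  obtain ⟨Q, hQ⟩ := Fam.exists_upper P
  exact ⟨Q, Q.mem_of_local s Z g hc fun k => hQ k _ (hP k)⟩

end Groth.Agent.QcohExt14

namespace Groth.Agent.QcohExt14

open AlgSp Groth.Agent.QcohEt15 Groth.Agent.AlgSpace Groth.Agent.AlgSpEt14 Groth.Agent.AlgSpDecent

variable {S : Scheme.{u}}

theorem hasFams_step [QuasiSeparatedSpace ↥S] (X : Space S) (hqc : IsQuasiCompactSp X.obj)
    (hqs : IsQuasiSeparatedSp X.obj) {M : ModEt X.obj} [M.IsQuasicoherent]
    {I : Type u} [Finite I] (C : I → EtOver X.obj) [∀ i, IsAffine (C i).obj.left.left]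
    (hR : HasFams M (⋃ i, Set.range (Points.ofPt (C i).obj.hom))) (V : EtOver X.obj) [IsAffine V.obj.left.left]
    (hV : ∀ (Z : EtOver X.obj) (a b : Z ⟶ V) (z : ↥Z.obj.left.left),
      Points.ofPt Z.obj.hom z ∉ (⋃ i, Set.range (Points.ofPt (C i).obj.hom)) →
      ∃ (W : EtOver X.obj) (_ : IsAffine W.obj.left.left) (k : W ⟶ Z),
        z ∈ Set.range k.hom.left.left ∧ k ≫ a = k ≫ b) (s : sectModEt M V) :
    ∃ P : Fam M, s ∈ P.P V := by
  classical
  choose κ hκ W hW k t hc using fun i => exists_pair_cover hqs V (C i)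
  have hP : ∀ q : (Σ i, κ i), ∃ P : Fam M, res M (k q.1 q.2) s ∈ P.P (W q.1 q.2) := fun q =>
    hR _ (hW q.1 q.2) (by
      rintro _ ⟨w, rfl⟩
      refine Set.mem_iUnion.2 ⟨q.1, (t q.1 q.2).hom.left.left w, ?_⟩
      rw [← EtOver.w (t q.1 q.2)]
      exact (ofPt_map_comp _ _ _).symm) _
  choose P hPs using hP
  obtain ⟨Q, hQ⟩ := Fam.exists_upper P
  let d := Q.data C
  have hs : d.In s := (d.in_iff s).2 fun i Z _ a b => by
    refine (Q.span (C i) Z b).ge ?_
    choose l₀ Z' hZ' l l' hz hk ht using hc i Z a b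
    refine Q.mem_of_local _ Z' l (fun z => ⟨z, hz z⟩) fun z => ?_
    haveI := hW i (l₀ z)
    rw [← res_comp, ← hk z, res_comp]
    exact Q.res_mem (l' z) (hQ ⟨i, l₀ z⟩ _ (hPs ⟨i, l₀ z⟩))
  obtain ⟨d', hle, hd', hF⟩ := exists_adjoin hqs d V {s} (fun x hx => Finset.mem_singleton.1 hx ▸ hs)
    fun Z a b z hz => hV Z a b z hz
  obtain ⟨d'', hle', hd''⟩ := exists_covering X hqc hqs d'
  refine ⟨d''.fam hqs hd'', ?_⟩
  exact d'.in_of_points d'' hle' (hF s (Finset.mem_singleton_self s)) fun v => hd' ⟨v, rfl⟩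

/-- Every section over an affine object lies in a finite type family. -/
theorem exists_fam [QuasiSeparatedSpace ↥S] (X : Space S) (hqc : IsQuasiCompactSp X.obj)
    (hqs : IsQuasiSeparatedSp X.obj) {M : ModEt X.obj} [M.IsQuasicoherent] (E : EtOver X.obj)
    [IsAffine E.obj.left.left] (s : sectModEt M E) : ∃ P : Fam M, s ∈ P.P E := by
  classical
  have key := chart_induction X hqc hqs (fun R => (∃ (I : Type u) (_ : Finite I) (C : I → EtOver X.obj)
      (_ : ∀ i, IsAffine (C i).obj.left.left), (⋃ i, Set.range (Points.ofPt (C i).obj.hom)) = R) ∧ HasFams M R)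
    ⟨⟨PEmpty, inferInstance, fun i => i.elim, fun i => i.elim, Set.iUnion_of_empty _⟩, fun E hE hR s => by
      have : IsEmpty ↥E.obj.left.left := ⟨fun v => (hR ⟨v, rfl⟩).elim⟩
      exact ⟨Fam.zero, by
        rw [sections_ext_family M (fun i : PEmpty.{1} => (i.elim : EtOver X.obj)) (fun i => i.elim)
          (fun v => isEmptyElim v) (m := s) (m' := 0) fun i => i.elim]
        exact zero_mem _⟩⟩ fun R V _ hV => ?_
  · exact key.2 E inferInstance (Set.subset_univ _) s
  rintro ⟨⟨I, hI, C, hC, rfl⟩, hR⟩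
  refine ⟨⟨Option I, inferInstance, fun o => o.elim V C, fun o => Option.casesOn o ‹_› hC,
    by rw [Set.iUnion_option, Set.union_comm]; rfl⟩, fun E hE hsub s => ?_⟩
  have hx : ∀ v : ↥E.obj.left.left, ∃ (W : EtOver X.obj) (_ : IsAffine W.obj.left.left) (k : W ⟶ E),
      v ∈ Set.range k.hom.left.left ∧ ∃ P : Fam M, res M k s ∈ P.P W := fun v => by
    rcases hsub ⟨v, rfl⟩ with h | ⟨u₀, hu⟩
    · obtain ⟨i, u₀, hu⟩ := Set.mem_iUnion.1 h
      obtain ⟨W, hW, k₁, k₂, w, hw, -⟩ := exists_common_affine v u₀ hu.symm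
      refine ⟨W, hW, k₁, ⟨w, hw⟩, hR W hW ?_ _⟩
      rintro _ ⟨y, rfl⟩
      refine Set.mem_iUnion.2 ⟨i, k₂.hom.left.left y, ?_⟩
      rw [← EtOver.w k₂]
      exact (ofPt_map_comp _ _ _).symm
    · obtain ⟨W, hW, k₁, k₂, w, hw, -⟩ := exists_common_affine v u₀ hu.symm
      refine ⟨W, hW, k₁, ⟨w, hw⟩, ?_⟩
      obtain ⟨z, hz⟩ := (good_of_isQuasicoherent (M := M) V k₂).2 (res M k₁ s)
      rw [← hz]
      clear hz
      induction z using TensorProduct.induction_on with
      | zero => exact ⟨Fam.zero, by rw [map_zero]; exact zero_mem _⟩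
      | tmul a n =>
        obtain ⟨P, hP⟩ := hasFams_step X hqc hqs C hR V hV n
        exact ⟨P, by rw [lift_tmul]; exact Submodule.smul_mem _ _ (P.res_mem k₂ hP)⟩
      | add x y hx hy =>
        obtain ⟨P, hP⟩ := hx
        obtain ⟨Q, hQ⟩ := hy
        exact ⟨P.sup Q, by rw [map_add]; exact Submodule.add_mem_sup hP hQ⟩
  choose W hW k hk hP using hx
  obtain ⟨t, ht⟩ := isCompact_univ.elim_finite_subcover (fun v => Set.range (k v).hom.left.left)
    (fun v => by
      haveI := EtOver.etale_left (k v)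
      exact (k v).hom.left.left.isOpenMap.isOpen_range)
    fun v _ => Set.mem_iUnion.2 ⟨v, hk v⟩
  exact Fam.exists_of_cover (κ := t) s (fun v => W v.1) (fun v => k v.1) (fun v => by
    obtain ⟨i, hi, hv⟩ := Set.mem_iUnion₂.1 (ht (Set.mem_univ v))
    exact ⟨⟨i, hi⟩, hv⟩) fun v => hP v.1

/-- Covering charts. -/
theorem exists_charts [QuasiSeparatedSpace ↥S] (X : Space S) (hqc : IsQuasiCompactSp X.obj) :
    ∃ U : EtOver X.obj, IsAffine U.obj.left.left ∧ Function.Surjective (Points.ofPt U.obj.hom) := by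
  obtain ⟨U, φ, hU, hφ, hs⟩ := exists_affine_chart hqc
  exact ⟨EtOver.mk φ hφ, hU, surjective_ofPt hs⟩

/-- A family comes from a finite type quasi-coherent submodule. -/
theorem Fam.exists_sub [QuasiSeparatedSpace ↥S] {X : Space S} (hqc : IsQuasiCompactSp X.obj)
    (hqs : IsQuasiSeparatedSp X.obj) {M : ModEt X.obj} [M.IsQuasicoherent] (P : Fam M) :
    ∃ (G : ModEt X.obj) (g : G ⟶ M), Mono g ∧ G.IsQuasicoherent ∧ G.IsFiniteType ∧
      ∀ (E : EtOver X.obj) [IsAffine E.obj.left.left], LinearMap.range (appₗ g E) = P.P E := by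
  obtain ⟨U, hU, hs⟩ := exists_charts X hqc
  haveI := hU
  let d := P.data fun _ : PUnit.{u + 1} => U
  have hd : d.range = Set.univ := Set.eq_univ_of_forall fun x => Set.mem_iUnion.2 ⟨⟨⟩, hs x⟩
  refine ⟨d.mod, d.modι, inferInstance, d.isQuasicoherent_mod hqs, d.isFiniteType_mod hqs hd, fun E _ => ?_⟩
  rw [d.range_modι]
  refine le_antisymm (fun x hx => ?_) fun x hx => P.in_data _ hx
  choose u₀ hu using fun v : ↥E.obj.left.left => hs (Points.ofPt E.obj.hom v)
  choose W hW k₁ k₂ w hw₁ hw₂ using fun v : ↥E.obj.left.left => exists_common_affine v (u₀ v) (hu v).symm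
  refine P.mem_of_local x W k₁ (fun v => ⟨v, w v, hw₁ v⟩) fun v => ?_
  exact (P.span U (W v) (k₂ v)).le ((d.in_iff x).1 hx ⟨⟩ (W v) (k₁ v) (k₂ v))

/-- The quasi-coherent finite type submodules form a directed family with colimit the module. -/
theorem isColimit_subobjects [QuasiSeparatedSpace ↥S] (X : Space S) (hqc : IsQuasiCompactSp X.obj)
    (hqs : IsQuasiSeparatedSp X.obj) (M : ModEt X.obj) [M.IsQuasicoherent]
    (P : ObjectProperty (Subobject M))
    (hP : P = fun N => (Subobject.underlying.obj N).IsQuasicoherent ∧ (Subobject.underlying.obj N).IsFiniteType)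
    (ι : P.ι ⋙ Subobject.underlying ⟶ (Functor.const P.FullSubcategory).obj M)
    (hι : ∀ N : P.FullSubcategory, ι.app N = N.obj.arrow) :
    IsFiltered P.FullSubcategory ∧ Nonempty (IsColimit (Cocone.mk M ι)) := by
  have mkP : ∀ Q : Fam M, ∃ N : P.FullSubcategory, ∀ (E : EtOver X.obj) [IsAffine E.obj.left.left],
      LinearMap.range (appₗ N.obj.arrow E) = Q.P E := fun Q => by
    obtain ⟨G, g, hg, hG₁, hG₂, hr⟩ := Q.exists_sub hqc hqs
    let e : Subobject.underlying.obj (Subobject.mk g) ≅ G := Subobject.underlyingIso g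
    have hN : P (Subobject.mk g) := by
      rw [hP]
      haveI hq : (Subobject.underlying.obj (Subobject.mk g)).IsQuasicoherent :=
        (SheafOfModules.isQuasicoherent (OEtRing X.obj)).prop_of_iso e.symm hG₁
      refine ⟨hq, isFiniteType_of_good_of_finite (fun E _ => good_of_isQuasicoherent E) fun E _ => ?_⟩
      haveI := finite_sections_of_isFiniteType (M := G) E
      refine Module.Finite.of_surjective (appₗ e.inv E) fun x => ⟨appₗ e.hom E x, ?_⟩
      exact ((appₗ_comp e.hom e.inv E x).symm.trans (congrArg (fun q => appₗ q E x) e.hom_inv_id))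
    refine ⟨⟨Subobject.mk g, hN⟩, fun E _ => ?_⟩
    rw [← hr E]
    refine le_antisymm ?_ ?_
    · rintro _ ⟨x, rfl⟩
      refine ⟨appₗ e.hom E x, ?_⟩
      rw [← appₗ_comp, Subobject.underlyingIso_hom_comp_eq_mk]
    · rintro _ ⟨x, rfl⟩
      refine ⟨appₗ e.inv E x, ?_⟩
      rw [← appₗ_comp, Subobject.underlyingIso_arrow]
  have ofP : ∀ N : P.FullSubcategory, ∃ Q : Fam M, ∀ (E : EtOver X.obj) [IsAffine E.obj.left.left],
      LinearMap.range (appₗ N.obj.arrow E) = Q.P E := fun N => by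
    obtain ⟨h1, h2⟩ : (Subobject.underlying.obj N.obj).IsQuasicoherent ∧
        (Subobject.underlying.obj N.obj).IsFiniteType := hP ▸ N.property
    exact ⟨Fam.ofMod (G := Subobject.underlying.obj N.obj) N.obj.arrow, fun E _ => rfl⟩
  have le_of : ∀ N N' : P.FullSubcategory, (∀ (E : EtOver X.obj) [IsAffine E.obj.left.left],
      LinearMap.range (appₗ N.obj.arrow E) ≤ LinearMap.range (appₗ N'.obj.arrow E)) → N.obj ≤ N'.obj := by
    intro N N' h
    obtain ⟨l, hl⟩ := exists_liftMono N'.obj.arrow N.obj.arrow h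
    exact Subobject.le_of_comm l hl
  have upper : ∀ N N' : P.FullSubcategory, ∃ K : P.FullSubcategory, N.obj ≤ K.obj ∧ N'.obj ≤ K.obj := by
    intro N N'
    obtain ⟨Q, hQ⟩ := ofP N
    obtain ⟨Q', hQ'⟩ := ofP N'
    obtain ⟨K, hK⟩ := mkP (Q.sup Q')
    exact ⟨K, le_of _ _ fun E _ => by rw [hQ, hK]; exact le_sup_left,
      le_of _ _ fun E _ => by rw [hQ', hK]; exact le_sup_right⟩
  have : IsFilteredOrEmpty P.FullSubcategory :=
    { cocone_objs := fun N N' => by
        obtain ⟨K, h, h'⟩ := upper N N'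
        exact ⟨K, ObjectProperty.homMk (homOfLE h), ObjectProperty.homMk (homOfLE h'), trivial⟩
      cocone_maps := fun N N' f g => ⟨N', 𝟙 _, ObjectProperty.hom_ext _ (Subsingleton.elim _ _)⟩ }
  have : Nonempty P.FullSubcategory := ⟨(mkP Fam.zero).choose⟩
  refine ⟨{}, isColimit_of_local' _ (fun N N' => ?_) (fun E _ N n hn v => ?_) fun E m v => ?_⟩
  · obtain ⟨K, h, h'⟩ := upper N N'
    exact ⟨K, ⟨ObjectProperty.homMk (homOfLE h)⟩, ⟨ObjectProperty.homMk (homOfLE h')⟩⟩
  · change appₗ (ι.app N) E n = 0 at hn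
    rw [hι] at hn
    have : n = 0 := appₗ_injective N.obj.arrow E (hn.trans (map_zero _).symm)
    exact ⟨E, 𝟙 _, N, 𝟙 _, ⟨v, rfl⟩, by rw [this, map_zero]; exact map_zero _⟩
  · obtain ⟨_, ⟨(O : E.obj.left.left.Opens), hO, rfl⟩, hvO, -⟩ :=
      E.obj.left.left.isBasis_affineOpens.exists_subset_of_mem_open (Set.mem_univ v) isOpen_univ
    haveI : IsAffine (openSub E O).obj.left.left := hO
    obtain ⟨Q, hQ⟩ := exists_fam X hqc hqs (openSub E O) (res M (openSubι E O) m)
    obtain ⟨N, hN⟩ := mkP Q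
    obtain ⟨n, hn⟩ := (hN _).ge hQ
    refine ⟨openSub E O, openSubι E O, N, n, (range_openSubι E O).symm ▸ hvO, ?_⟩
    change appₗ (ι.app N) _ n = _
    rw [hι]
    exact hn

end Groth.Agent.QcohExt14
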