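import Groth.Agent.Lib.QcohEt15.Sub2
import Groth.Agent.Lib.QcohEt15.Finite
import Groth.Agent.Lib.QcohEt15.Coprod

/-!
# Submodules cut out by compatible spans on a family of affine charts

A finite family of affine charts with finitely generated submodules of sections, the spans of which agree wherever two
charts meet, cuts out a submodule with finitely generated sections on the part of the space covered by the charts.
-/

universe u

set_option linter.style.haveILetI false
set_option backward.isDefEq.respectTransparency false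
set_option backward.isDefEq.respectTransparency.types false

open CategoryTheory CategoryTheory.Limits AlgebraicGeometry Opposite TensorProduct

namespace Groth.Agent.QcohExt14

open AlgSp Groth.Agent.QcohEt15 Groth.Agent.AlgSpace

variable {S : Scheme.{u}} {X : Sp S} {M : ModEt X}

/-! ### Spans -/

/-- The span of the restrictions of a submodule. -/
noncomputable def spanT {E W : EtOver X} (t : W ⟶ E) (N : Submodule (Γo E) (sectModEt M E)) :
    Submodule (Γo W) (sectModEt M W) :=
  Submodule.span (Γo W) (res M t '' (N : Set (sectModEt M E)))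

theorem mem_spanT_iff {E W : EtOver X} (t : W ⟶ E) (N : Submodule (Γo E) (sectModEt M E))
    (s : sectModEt M W) : s ∈ spanT t N ↔ s ∈ Set.range (lift t N.subtype) := by
  constructor
  · intro h
    induction h using Submodule.span_induction with
    | mem x hx =>
      obtain ⟨n, hn, rfl⟩ := hx
      exact ⟨Tw.mk t 1 ⊗ₜ (⟨n, hn⟩ : N), (lift_tmul t N.subtype _ _).trans (one_smul _ _)⟩
    | zero => exact ⟨0, map_zero _⟩
    | add x y _ _ hx hy =>
      obtain ⟨a, rfl⟩ := hx
      obtain ⟨b, rfl⟩ := hy
      exact ⟨a + b, map_add _ _ _⟩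
    | smul r x _ hx =>
      obtain ⟨a, rfl⟩ := hx
      exact ⟨r • a, lift_smul _ _ _ _⟩
  · rintro ⟨z, rfl⟩
    induction z using TensorProduct.induction_on with
    | zero => rw [map_zero]; exact zero_mem _
    | tmul a n =>
      rw [lift_tmul]
      exact Submodule.smul_mem _ _ (Submodule.subset_span ⟨n.1, n.2, rfl⟩)
    | add x y hx hy => rw [map_add]; exact add_mem hx hy

theorem spanT_mono {E W : EtOver X} (t : W ⟶ E) {N N' : Submodule (Γo E) (sectModEt M E)} (h : N ≤ N') :
    spanT t N ≤ spanT t N' :=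
  Submodule.span_mono (Set.image_mono h)

theorem res_mem_spanT {E W : EtOver X} (t : W ⟶ E) {N : Submodule (Γo E) (sectModEt M E)} {s : sectModEt M E}
    (h : s ∈ N) : res M t s ∈ spanT t N :=
  Submodule.subset_span ⟨s, h, rfl⟩

theorem spanT_le_iff {E W : EtOver X} (t : W ⟶ E) (N : Submodule (Γo E) (sectModEt M E))
    (P : Submodule (Γo W) (sectModEt M W)) : spanT t N ≤ P ↔ ∀ s ∈ N, res M t s ∈ P :=
  Submodule.span_le.trans Set.image_subset_iff

theorem spanT_comp {E W W' : EtOver X} (t : W ⟶ E) (a : W' ⟶ W) (N : Submodule (Γo E) (sectModEt M E)) :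
    spanT (a ≫ t) N = spanT a (spanT t N) := by
  refine le_antisymm ((spanT_le_iff _ _ _).2 fun s hs => ?_) ((spanT_le_iff _ _ _).2 fun x hx => ?_)
  · rw [res_comp]
    exact res_mem_spanT a (res_mem_spanT t hs)
  · induction hx using Submodule.span_induction with
    | mem y hy =>
      obtain ⟨s, hs, rfl⟩ := hy
      rw [← res_comp]
      exact res_mem_spanT _ hs
    | zero => rw [map_zero]; exact zero_mem _
    | add y z _ _ hy hz => rw [map_add]; exact add_mem hy hz
    | smul r y _ hy => rw [res_smul]; exact Submodule.smul_mem _ _ hy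

theorem spanT_id {E : EtOver X} (N : Submodule (Γo E) (sectModEt M E)) : spanT (𝟙 E) N = N := by
  refine le_antisymm ((spanT_le_iff _ _ _).2 fun s hs => by rwa [res_id]) fun s hs => ?_
  rw [← res_id M E s]
  exact res_mem_spanT _ hs

theorem spanT_fg {E W : EtOver X} (t : W ⟶ E) {N : Submodule (Γo E) (sectModEt M E)} (h : N.FG) :
    (spanT t N).FG := by
  classical
  obtain ⟨G, rfl⟩ := h
  refine ⟨G.image (res M t), le_antisymm (Submodule.span_le.2 ?_) ((spanT_le_iff _ _ _).2 fun s hs => ?_)⟩
  · intro x hx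
    obtain ⟨g, hg, rfl⟩ := Finset.mem_image.1 hx
    exact res_mem_spanT t (Submodule.subset_span hg)
  · induction hs using Submodule.span_induction with
    | mem y hy => exact Submodule.subset_span (Finset.mem_image_of_mem _ hy)
    | zero => rw [map_zero]; exact zero_mem _
    | add y z _ _ hy hz => rw [map_add]; exact add_mem hy hz
    | smul r y _ hy => rw [res_smul]; exact Submodule.smul_mem _ _ hy

theorem spanT_le_of_local [M.IsQuasicoherent] {W : EtOver X} [IsAffine W.obj.left.left]
    (P Q : Submodule (Γo W) (sectModEt M W))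
    (h : ∀ w : ↥W.obj.left.left, ∃ (W' : EtOver X) (_ : IsAffine W'.obj.left.left) (l : W' ⟶ W),
      w ∈ Set.range l.hom.left.left ∧ spanT l P = spanT l Q) : P = Q := by
  choose W' hW' l hl he using h
  have key : ∀ P Q : Submodule (Γo W) (sectModEt M W), (∀ w, spanT (l w) P ≤ spanT (l w) Q) → P ≤ Q :=
    fun P Q hPQ s hs => by
      refine mem_submodule_of_local (good_of_isQuasicoherent W) Q s (Sieve.generate (Presieve.ofArrows W' l))
        (ofArrows_mem_etTop W' l fun w => ⟨w, hl w⟩) fun Z _ k hk => ?_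
      obtain ⟨_, a, _, ⟨w⟩, rfl⟩ := hk
      rw [← mem_spanT_iff, spanT_comp, res_comp]
      exact res_mem_spanT a (hPQ w (res_mem_spanT _ hs))
  exact le_antisymm (key P Q fun w => (he w).le) (key Q P fun w => (he w).ge)

/-! ### Data -/

/-- Compatible finitely generated spans on a finite family of affine charts. -/
structure Data (M : ModEt X) where
  /-- The indices. -/
  I : Type u
  /-- Finitely many. -/
  fin : Finite I
  /-- The charts. -/
  C : I → EtOver X
  /-- They are affine. -/
  aff : ∀ i, IsAffine (C i).obj.left.left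
  /-- The submodules. -/
  N : ∀ i, Submodule (Γo (C i)) (sectModEt M (C i))
  /-- They are finitely generated. -/
  fg : ∀ i, (N i).FG
  /-- They agree where two charts meet. -/
  compat : ∀ i j (W : EtOver X) [IsAffine W.obj.left.left] (a : W ⟶ C i) (b : W ⟶ C j),
    spanT a (N i) = spanT b (N j)

attribute [instance] Data.fin Data.aff

/-- The part of the space the charts cover. -/
def Data.range (d : Data M) : Set (Points X) := ⋃ i, Set.range (Points.ofPt (d.C i).obj.hom)

/-- Sections in all spans. -/
def Data.In (d : Data M) {E : EtOver X} (s : sectModEt M E) : Prop := ∀ i, InLoc (d.N i) s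

theorem Data.in_iff (d : Data M) {E : EtOver X} (s : sectModEt M E) :
    d.In s ↔ ∀ i (W : EtOver X) [IsAffine W.obj.left.left] (k : W ⟶ E) (t : W ⟶ d.C i),
      res M k s ∈ spanT t (d.N i) :=
  ⟨fun h i W _ k t => (mem_spanT_iff t _ _).2 (h i k t), fun h i W _ k t => (mem_spanT_iff t _ _).1 (h i W k t)⟩

/-- Sections in all spans, as a submodule. -/
noncomputable def Data.inSub (d : Data M) (E : EtOver X) : Submodule (Γo E) (sectModEt M E) where
  carrier := {s | d.In s}
  add_mem' {a b} ha hb := fun i => (locObj (d.N i) E).add_mem (ha i) (hb i)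
  zero_mem' := fun i => (locObj (d.N i) E).zero_mem
  smul_mem' r {a} ha := fun i => (locObj (d.N i) E).smul_mem (upΓ E r) (ha i)

theorem Data.mem_inSub (d : Data M) {E : EtOver X} (s : sectModEt M E) : s ∈ d.inSub E ↔ d.In s := Iff.rfl

theorem Data.In.res' {d : Data M} {E E' : EtOver X} {s : sectModEt M E} (h : d.In s) (g : E' ⟶ E) :
    d.In (res M g s) := fun i => InLoc.res _ (h i) g

theorem Data.spanT_le_inSub (d : Data M) {i : d.I} {W : EtOver X} [IsAffine W.obj.left.left] (t : W ⟶ d.C i) :
    spanT t (d.N i) ≤ d.inSub W := fun s hs => (d.in_iff s).2 fun j Z _ k t' => by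
  rw [← d.compat i j Z (k ≫ t) t', spanT_comp]
  exact res_mem_spanT k hs

theorem Data.inSub_eq_spanT (d : Data M) {i : d.I} {W : EtOver X} [IsAffine W.obj.left.left] (t : W ⟶ d.C i) :
    d.inSub W = spanT t (d.N i) := by
  refine le_antisymm (fun s hs => ?_) (d.spanT_le_inSub t)
  have := (d.in_iff s).1 hs i W (𝟙 W) t
  rwa [res_id] at this

/-- Sections in all spans base change along etale maps of affine objects. -/
theorem Data.inSub_le_spanT [QuasiSeparatedSpace ↥S] [M.IsQuasicoherent] (hqs : IsQuasiSeparatedSp X)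
    (d : Data M) {E E' : EtOver X} [IsAffine E.obj.left.left] [IsAffine E'.obj.left.left] (g : E' ⟶ E) :
    d.inSub E' ≤ spanT g (d.inSub E) := by
  intro w hw
  have := Tw.flat g
  have hE : Good M E := good_of_isQuasicoherent E
  obtain ⟨z, hz⟩ := (hE g).2 w
  choose κ hκ W hW k t hc using fun i => exists_pair_cover hqs E (d.C i)
  let f : ∀ q : (Σ i, κ i), sectModEt M E →ₗ[Γo E]
      (Push M (k q.1 q.2) ⧸ pushSpan (d.N q.1) (k q.1 q.2) (t q.1 q.2)) := fun q =>
    (pushSpan (d.N q.1) (k q.1 q.2) (t q.1 q.2)).mkQ ∘ₗ resP₀ M (k q.1 q.2)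
  have hK : ⨅ q, (f q).ker ≤ d.inSub E := fun s hs i =>
    inLoc_of_pairs (d.N i) (good_of_isQuasicoherent (d.C i)) s (hW i) (k i) (t i) (hc i) fun l =>
      (Submodule.Quotient.mk_eq_zero _).1 (LinearMap.mem_ker.1 ((Submodule.mem_iInf _).1 hs ⟨i, l⟩))
  have h0 : ∀ q, (f q).lTensor (Tw g) z = 0 := fun q => by
    have := hW q.1 q.2
    let P := EtOver.pullbackObj g (k q.1 q.2)
    have : IsAffine P.obj.left.left := inferInstance
    obtain ⟨x, hx⟩ := hw q.1 (EtOver.pullbackFst g (k q.1 q.2)) (EtOver.pullbackSnd g (k q.1 q.2) ≫ t q.1 q.2)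
    obtain ⟨y, hy⟩ := exists_squareMap_pushSpan (d.N q.1) g (k q.1 q.2) (t q.1 q.2) x
    have he : (resP₀ M (k q.1 q.2)).lTensor (Tw g) z =
        (pushSpan (d.N q.1) (k q.1 q.2) (t q.1 q.2)).subtype.lTensor (Tw g) y :=
      (squareMap_bijective g (k q.1 q.2) ((hE (k q.1 q.2) |> fun h1 => BC.cancel h1 (hE _)))).1
        (by rw [squareMap_resP₀, hz, hy, hx])
    rw [LinearMap.lTensor_comp_apply, he, ← LinearMap.lTensor_comp_apply,
      show (pushSpan (d.N q.1) (k q.1 q.2) (t q.1 q.2)).mkQ ∘ₗ
          (pushSpan (d.N q.1) (k q.1 q.2) (t q.1 q.2)).subtype = 0 from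
        LinearMap.ext fun a => (Submodule.Quotient.mk_eq_zero _).2 a.2, LinearMap.lTensor_zero]
    rfl
  obtain ⟨y, hy⟩ := mem_range_lTensor_iInf_ker f z h0
  rw [mem_spanT_iff]
  refine ⟨(Submodule.inclusion hK).lTensor (Tw g) y, ?_⟩
  rw [lift_ext_id g (d.inSub E).subtype, ← LinearMap.lTensor_comp_apply, Submodule.subtype_comp_inclusion, hy, hz]

end Groth.Agent.QcohExt14
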