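import Groth.Agent.Lib.QcohExt14.Colim
import Groth.Agent.Lib.EtPush14.EtPull
import Groth.Agent.Lib.AlgSpEt14.Basic
import Groth.Agent.Lib.QcohEt15.Pull.Desc

/-!
# Extending finite type submodules from quasi-compact open subspaces
-/

universe u

set_option linter.style.haveILetI false
set_option backward.isDefEq.respectTransparency false
set_option backward.isDefEq.respectTransparency.types false

open CategoryTheory CategoryTheory.Limits AlgebraicGeometry Opposite TensorProduct

namespace Groth.Agent.QcohExt14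

open AlgSp Groth.Agent.QcohEt15 Groth.Agent.AlgSpace Groth.Agent.EtPush14 Groth.Agent.AlgSpDecent

variable {S : Scheme.{u}} {X U : Sp S} {j : U ⟶ X} (he : IsEtaleMor j)
  [(EtOver.postcomp j he).IsContinuous (etTop U) (etTop X)] (F : ModEt X)

/-- A submodule of sections of a restriction, upstairs. -/
noncomputable def upSub {E : EtOver U} (N : Submodule (Γo E) (sectModEt ((restrEt he).obj F) E)) :
    Submodule (Γo ((EtOver.postcomp j he).obj E)) (sectModEt F ((EtOver.postcomp j he).obj E)) where
  carrier := {s | (show sectModEt ((restrEt he).obj F) E from s) ∈ N}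
  add_mem' := fun ha hb => N.add_mem ha hb
  zero_mem' := N.zero_mem
  smul_mem' := fun r _ ha => N.smul_mem (show Γo E from r) ha

theorem spanT_upSub {E W : EtOver U} (t : W ⟶ E) (N : Submodule (Γo E) (sectModEt ((restrEt he).obj F) E)) :
    spanT ((EtOver.postcomp j he).map t) (upSub he F N) = upSub he F (spanT t N) := by
  refine le_antisymm ((spanT_le_iff _ _ _).2 fun s hs => ?_) fun x hx => ?_
  · exact res_mem_spanT (M := (restrEt he).obj F) t (show (show sectModEt ((restrEt he).obj F) E from s) ∈ N from hs)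
  · have hle : spanT t N ≤
        { carrier := {y : sectModEt ((restrEt he).obj F) W |
            (show sectModEt F ((EtOver.postcomp j he).obj W) from y) ∈
              spanT ((EtOver.postcomp j he).map t) (upSub he F N)}
          add_mem' := fun ha hb => (spanT ((EtOver.postcomp j he).map t) (upSub he F N)).add_mem ha hb
          zero_mem' := (spanT ((EtOver.postcomp j he).map t) (upSub he F N)).zero_mem
          smul_mem' := fun r _ ha => (spanT ((EtOver.postcomp j he).map t) (upSub he F N)).smul_mem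
            (show Γo ((EtOver.postcomp j he).obj W) from r) ha } :=
      (spanT_le_iff _ _ _).2 fun s hs => res_mem_spanT (M := F) ((EtOver.postcomp j he).map t)
        (show (show sectModEt F ((EtOver.postcomp j he).obj E) from s) ∈ upSub he F N from hs)
    exact hle hx

/-- A map to a composed object descends along a monomorphism. -/
theorem exists_desc [Mono j] {W : EtOver X} {E : EtOver U} (a : W ⟶ (EtOver.postcomp j he).obj E) :
    ∃ (W₀ : EtOver U) (a₀ : W₀ ⟶ E) (e : W ⟶ (EtOver.postcomp j he).obj W₀),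
      IsIso e ∧ e ≫ (EtOver.postcomp j he).map a₀ = a := by
  haveI : Etale a.hom.left.left := EtOver.etale_left a
  let W₀ : EtOver U := EtOver.mk ((yon S).map a.hom.left ≫ E.obj.hom)
    ((repWith_isMultiplicative (S := S) @Etale).comp_mem _ _ ((repWith_yon_map_iff _ _).2 ‹_›) E.property)
  let a₀ : W₀ ⟶ E := EtOver.homMk a.hom.left rfl
  have hw : ((yon S).map (𝟙 W.obj.left)) ≫ ((yon S).map a.hom.left ≫ E.obj.hom) ≫ j = W.obj.hom := by
    rw [Category.assoc]
    exact (congrArg (· ≫ _) ((yon S).map_id _)).trans ((Category.id_comp _).trans (EtOver.w a))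
  let e : W ⟶ (EtOver.postcomp j he).obj W₀ := EtOver.homMk (𝟙 W.obj.left) hw
  let e' : (EtOver.postcomp j he).obj W₀ ⟶ W := EtOver.homMk (𝟙 W.obj.left) (by
    refine (congrArg (· ≫ W.obj.hom) ((yon S).map_id _)).trans ((Category.id_comp _).trans ?_)
    exact (EtOver.w a).symm.trans (Category.assoc _ _ _).symm)
  exact ⟨W₀, a₀, e, ⟨e', EtOver.hom_ext _ _ (Category.comp_id _), EtOver.hom_ext _ _ (Category.comp_id _)⟩,
    EtOver.hom_ext _ _ (Category.id_comp _)⟩

end Groth.Agent.QcohExt14

namespace Groth.Agent.QcohExt14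

open AlgSp Groth.Agent.QcohEt15 Groth.Agent.AlgSpace Groth.Agent.EtPush14 Groth.Agent.AlgSpDecent

variable {S : Scheme.{u}}

/-- Finite type quasi-coherent submodules extend from quasi-compact opens. -/
theorem exists_extension [QuasiSeparatedSpace ↥S] (X : Space S)
    (hqc : IsQuasiCompactSp X.obj) (hqs : IsQuasiSeparatedSp X.obj)
    (U : Space S) (j : U ⟶ X) (hj : RepWith @IsOpenImmersion j.hom) (hU : IsQuasiCompactSp U.obj)
    [(SheafOfModules.pushforward.{u + 1} (bcRingHom hj.1)).IsRightAdjoint]
    (F : ModEt X.obj) [F.IsQuasicoherent]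
    (G : ModEt U.obj) (g : G ⟶ (pullModEt hj.1).obj F) [Mono g]
    [G.IsQuasicoherent] [G.IsFiniteType] :
    ∃ (G' : ModEt X.obj) (g' : G' ⟶ F), Mono g' ∧ G'.IsQuasicoherent ∧ G'.IsFiniteType ∧
      ∃ e : (pullModEt hj.1).obj G' ≅ G, e.hom ≫ g = (pullModEt hj.1).map g' := by
  have he : IsEtaleMor j.hom := Induction15.isEtaleMor_openImm hj
  haveI := Induction15.mono_openImm hj
  haveI := (AlgSpEt14.postcomp_isContinuous_isCocontinuous j.hom he).1
  let α : pullModEt hj.1 ≅ restrEt he :=
    ((restrPushAdj hj.1 he).leftAdjointUniq (pullPushAdjModEt hj.1)).symm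
  haveI : ((restrEt he).obj F).IsQuasicoherent :=
    (SheafOfModules.isQuasicoherent (OEtRing U.obj)).prop_of_iso (α.app F)
      (Pull.isQuasicoherent_pullModEt hj.1)
  let g₁ : G ⟶ (restrEt he).obj F := g ≫ α.hom.app F
  haveI : Mono g₁ := inferInstanceAs (Mono (g ≫ α.hom.app F))
  let P := Fam.ofMod g₁
  obtain ⟨U₀, hU₀, hs⟩ := exists_charts U hU
  haveI := hU₀
  let C : EtOver X.obj := (EtOver.postcomp j.hom he).obj U₀
  haveI : IsAffine C.obj.left.left := hU₀
  have hcompat : ∀ (W : EtOver X.obj) [IsAffine W.obj.left.left] (a b : W ⟶ C),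
      spanT a (upSub he F (P.P U₀)) = spanT b (upSub he F (P.P U₀)) := by
    intro W _ a b
    obtain ⟨W₀, a₀, e, _, rfl⟩ := exists_desc he a
    haveI : IsAffine W₀.obj.left.left := by
      haveI : IsIso e.hom.left.left :=
        inferInstanceAs (IsIso ((CostructuredArrow.proj (yon S) X.obj ⋙ Over.forget S).map e.hom))
      exact IsAffine.of_isIso (inv e.hom.left.left)
    let b₀ : W₀ ⟶ U₀ := EtOver.homMk (inv e ≫ b).hom.left ((cancel_mono j.hom).1 (by
      rw [Category.assoc]
      exact EtOver.w (inv e ≫ b)))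
    have hb : b = e ≫ (EtOver.postcomp j.hom he).map b₀ := by
      rw [← IsIso.inv_comp_eq]
      exact EtOver.hom_ext _ _ rfl
    rw [hb, spanT_comp _ e, spanT_comp _ e, spanT_upSub, spanT_upSub, P.span, P.span]
  let d₀ : Data F :=
    { I := PUnit
      fin := inferInstance
      C := fun _ => C
      aff := fun _ => inferInstance
      N := fun _ => upSub he F (P.P U₀)
      fg := fun _ => by
        obtain ⟨T, hT⟩ := P.fg U₀
        let T' : Finset (sectModEt F C) := T
        refine ⟨T', le_antisymm (Submodule.span_le.2 fun x hx => ?_) fun x hx => ?_⟩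
        · exact (hT ▸ Submodule.subset_span hx : (show sectModEt ((restrEt he).obj F) U₀ from x) ∈ P.P U₀)
        · have hle : P.P U₀ ≤
              { carrier := {y : sectModEt ((restrEt he).obj F) U₀ |
                  (show sectModEt F C from y) ∈ Submodule.span (Γo C) (T' : Set (sectModEt F C))}
                add_mem' := fun ha hb => (Submodule.span (Γo C) (T' : Set (sectModEt F C))).add_mem ha hb
                zero_mem' := (Submodule.span (Γo C) (T' : Set (sectModEt F C))).zero_mem
                smul_mem' := fun r _ ha => (Submodule.span (Γo C) (T' : Set (sectModEt F C))).smul_mem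
                  (show Γo C from r) ha } := by
            rw [← hT, Submodule.span_le]
            exact fun y hy => (Submodule.subset_span hy : (show sectModEt F C from y) ∈ Submodule.span (Γo C) _)
          exact hle hx
      compat := fun _ _ W _ a b => hcompat W a b }
  obtain ⟨d, hle, hd⟩ := exists_covering X hqc hqs d₀
  refine ⟨d.mod, d.modι, inferInstance, d.isQuasicoherent_mod hqs, d.isFiniteType_mod hqs hd, ?_⟩
  obtain ⟨ε, hε⟩ := hle
  let r : (restrEt he).obj d.mod ⟶ (restrEt he).obj F := (restrEt he).map d.modι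
  have hr : ∀ (W : EtOver U.obj) (x : sectModEt ((restrEt he).obj F) W),
      x ∈ LinearMap.range (appₗ r W) ↔
        d.In (show sectModEt F ((EtOver.postcomp j.hom he).obj W) from x) := fun W x =>
    ⟨fun ⟨w, hw⟩ => hw ▸ w.2, fun h => ⟨⟨x, h⟩, rfl⟩⟩
  haveI : Mono r := by
    exact ⟨fun {Z} a b hab => SheafOfModules.hom_ext (PresheafOfModules.hom_ext fun W => by
      ext x
      exact appₗ_injective d.modι ((EtOver.postcomp j.hom he).obj W.unop)
        (congrArg (fun q => appₗ q W.unop x) hab))⟩
  have hrange : ∀ (W : EtOver U.obj) [IsAffine W.obj.left.left],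
      LinearMap.range (appₗ r W) = LinearMap.range (appₗ g₁ W) := by
    intro W _
    choose u₀ hu using fun v : ↥W.obj.left.left => hs (Points.ofPt W.obj.hom v)
    choose Z hZ k₁ k₂ w hw₁ hw₂ using fun v : ↥W.obj.left.left => exists_common_affine v (u₀ v) (hu v).symm
    have hZeq : ∀ v, d.inSub ((EtOver.postcomp j.hom he).obj (Z v)) = upSub he F (P.P (Z v)) := fun v => by
      haveI : IsAffine ((EtOver.postcomp j.hom he).obj (Z v)).obj.left.left := hZ v
      obtain ⟨b, hb⟩ := hε ⟨⟩ _ ((EtOver.postcomp j.hom he).map (k₂ v))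
      rw [d.inSub_eq_spanT b, ← hb]
      exact (spanT_upSub he F (k₂ v) (P.P U₀)).trans (congrArg (upSub he F) (P.span U₀ (Z v) (k₂ v)))
    ext x
    rw [hr]
    refine ⟨fun hx => P.mem_of_local x Z k₁ (fun v => ⟨v, w v, hw₁ v⟩) fun v =>
      (hZeq v).le (Data.In.res' hx ((EtOver.postcomp j.hom he).map (k₁ v))), fun hx => ?_⟩
    exact d.in_of_local _ fun v => ⟨_, (EtOver.postcomp j.hom he).map (k₁ v), ⟨w v, hw₁ v⟩,
      (hZeq v).ge (P.res_mem (k₁ v) hx)⟩
  obtain ⟨a, ha⟩ := exists_liftMono g₁ r fun W _ => (hrange W).le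
  obtain ⟨b, hb⟩ := exists_liftMono r g₁ fun W _ => (hrange W).ge
  let e : (restrEt he).obj d.mod ≅ G :=
    ⟨a, b, (cancel_mono r).1 (by rw [Category.assoc, hb, ha, Category.id_comp]),
      (cancel_mono g₁).1 (by rw [Category.assoc, ha, hb, Category.id_comp])⟩
  refine ⟨α.app d.mod ≪≫ e, (cancel_mono (α.hom.app F)).1 ?_⟩
  rw [α.hom.naturality d.modι]
  change ((α.hom.app d.mod ≫ a) ≫ g) ≫ α.hom.app F = α.hom.app d.mod ≫ r
  rw [Category.assoc, Category.assoc]
  exact congrArg (α.hom.app d.mod ≫ ·) ha

end Groth.Agent.QcohExt14
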