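import Groth.Agent.Lib.QcohExt14.Step

/-!
# Finite type families of submodules
-/

universe u

set_option linter.style.haveILetI false
set_option backward.isDefEq.respectTransparency false
set_option backward.isDefEq.respectTransparency.types false

open CategoryTheory CategoryTheory.Limits AlgebraicGeometry Opposite TensorProduct

namespace Groth.Agent.QcohExt14

open AlgSp Groth.Agent.QcohEt15 Groth.Agent.AlgSpace

variable {S : Scheme.{u}} {X : Sp S} {M : ModEt X}

/-- Finitely generated submodules on the affine objects, stable under spans. -/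
structure Fam (M : ModEt X) where
  /-- The submodules. -/
  P : ∀ (E : EtOver X), Submodule (Γo E) (sectModEt M E)
  /-- They are finitely generated on affine objects. -/
  fg : ∀ (E : EtOver X) [IsAffine E.obj.left.left], (P E).FG
  /-- They base change. -/
  span : ∀ (E E' : EtOver X) [IsAffine E.obj.left.left] [IsAffine E'.obj.left.left] (g : E' ⟶ E),
    spanT g (P E) = P E'

theorem spanT_sup {E W : EtOver X} (t : W ⟶ E) (N N' : Submodule (Γo E) (sectModEt M E)) :
    spanT t (N ⊔ N') = spanT t N ⊔ spanT t N' := by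
  refine le_antisymm ((spanT_le_iff _ _ _).2 fun s hs => ?_)
    (sup_le (spanT_mono t le_sup_left) (spanT_mono t le_sup_right))
  obtain ⟨a, ha, b, hb, rfl⟩ := Submodule.mem_sup.1 hs
  rw [map_add]
  exact add_mem (Submodule.mem_sup_left (res_mem_spanT t ha)) (Submodule.mem_sup_right (res_mem_spanT t hb))

/-- The sum of two families. -/
noncomputable def Fam.sup (P Q : Fam M) : Fam M where
  P E := P.P E ⊔ Q.P E
  fg E _ := (P.fg E).sup (Q.fg E)
  span E E' _ _ g := by rw [spanT_sup, P.span, Q.span]

/-- The data of a family on finitely many charts. -/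
noncomputable def Fam.data (P : Fam M) {I : Type u} [Finite I] (C : I → EtOver X)
    [∀ i, IsAffine (C i).obj.left.left] : Data M where
  I := I
  fin := inferInstance
  C := C
  aff := inferInstance
  N i := P.P (C i)
  fg i := P.fg (C i)
  compat i j W _ a b := by rw [P.span, P.span]

theorem Fam.in_data (P : Fam M) {I : Type u} [Finite I] (C : I → EtOver X)
    [∀ i, IsAffine (C i).obj.left.left] {E : EtOver X} [IsAffine E.obj.left.left] {s : sectModEt M E}
    (hs : s ∈ P.P E) : (P.data C).In s :=
  ((P.data C).in_iff s).2 fun i W _ k t => by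
    change res M k s ∈ spanT t (P.P (C i))
    exact (P.span (C i) W t).ge ((P.span E W k).le (res_mem_spanT k hs))

/-- The family of a finite type quasi-coherent module mapping to `M`. -/
noncomputable def Fam.ofMod {G : ModEt X} [G.IsQuasicoherent] [G.IsFiniteType] (g : G ⟶ M) : Fam M where
  P E := LinearMap.range (appₗ g E)
  fg E _ := by
    have := finite_sections_of_isFiniteType (M := G) E
    rw [LinearMap.range_eq_map]
    exact Submodule.FG.map _ Module.Finite.fg_top
  span E E' _ _ k := by
    refine le_antisymm ((spanT_le_iff _ _ _).2 ?_) ?_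
    · rintro _ ⟨x, rfl⟩
      exact ⟨res G k x, appₗ_res g k x⟩
    · rintro _ ⟨x, rfl⟩
      obtain ⟨z, rfl⟩ := (good_of_isQuasicoherent (M := G) E k).2 x
      induction z using TensorProduct.induction_on with
      | zero => rw [map_zero, map_zero]; exact zero_mem _
      | tmul a n =>
        rw [lift_tmul, map_smul, LinearMap.id_apply, appₗ_res]
        exact Submodule.smul_mem _ _ (res_mem_spanT k ⟨n, rfl⟩)
      | add x y hx hy => rw [map_add, map_add]; exact add_mem hx hy

/-- The zero family. -/
noncomputable def Fam.zero : Fam M where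
  P _ := ⊥
  fg _ _ := Submodule.fg_bot
  span _ _ _ _ _ := le_antisymm ((spanT_le_iff _ _ _).2 fun s hs => by
    rw [(Submodule.mem_bot _).1 hs, map_zero]
    exact zero_mem _) bot_le

/-- The family of covering data. -/
noncomputable def Data.fam [QuasiSeparatedSpace ↥S] [M.IsQuasicoherent] (hqs : IsQuasiSeparatedSp X) (d : Data M)
    (hd : d.range = Set.univ) : Fam M where
  P E := d.inSub E
  fg E _ := by
    have := d.isQuasicoherent_mod hqs
    have := d.isFiniteType_mod hqs hd
    rw [← d.range_modι]
    exact (Fam.ofMod d.modι).fg E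
  span E E' _ _ g := le_antisymm ((spanT_le_iff _ _ _).2 fun _ hs => Data.In.res' hs g) (d.inSub_le_spanT hqs g)

theorem Data.in_of_local [M.IsQuasicoherent] (d : Data M) {E : EtOver X} (s : sectModEt M E)
    (h : ∀ v : ↥E.obj.left.left, ∃ (W : EtOver X) (k : W ⟶ E), v ∈ Set.range k.hom.left.left ∧ d.In (res M k s)) :
    d.In s := by
  choose W k hk hin using h
  refine fun i => inLoc_of_local (d.N i) (good_of_isQuasicoherent _) s (Sieve.generate (Presieve.ofArrows W k))
    (ofArrows_mem_etTop W k fun v => ⟨v, hk v⟩) fun Y g hg => ?_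
  obtain ⟨_, a, _, ⟨v⟩, rfl⟩ := hg
  rw [res_comp]
  exact InLoc.res _ (hin v i) a

theorem Data.in_of_points [M.IsQuasicoherent] (d d' : Data M) (h : d.LE d') {E : EtOver X}
    {s : sectModEt M E} (hs : d.In s)
    (hE : ∀ v : ↥E.obj.left.left, Points.ofPt E.obj.hom v ∈ d.range) : d'.In s := by
  obtain ⟨e, he⟩ := h
  refine d'.in_of_local s fun v => ?_
  obtain ⟨i, u₀, hu⟩ := Set.mem_iUnion.1 (hE v)
  obtain ⟨W, hW, k₁, k₂, w, hw, -⟩ := exists_common_affine v u₀ hu.symm
  obtain ⟨b, hb⟩ := he i W k₂
  exact ⟨W, k₁, ⟨w, hw⟩, d'.spanT_le_inSub b (hb ▸ (d.in_iff s).1 hs i W k₁ k₂)⟩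

end Groth.Agent.QcohExt14
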