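import Groth.Agent.Lib.QcohExt14.Colim
import Groth.Agent.Lib.QcohEt15.SuppAnn
import Groth.Agent.Lib.QcohSub14.Supp
import Groth.Agent.Lib.SchImage14.IdealEt
import Groth.Agent.Lib.IntSect15.Space
import Groth.Agent.Lib.FinLocFree14.Main
import Groth.Agent.Lib.AlgSpDecent.RedInduced

/-!
# Quasi-compact opens are complements of closed subspaces cut out by finite type ideals
-/

universe u

set_option linter.style.haveILetI false
set_option backward.isDefEq.respectTransparency false
set_option backward.isDefEq.respectTransparency.types false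

open CategoryTheory CategoryTheory.Limits AlgebraicGeometry Opposite TensorProduct

namespace Groth.Agent.QcohExt14

open AlgSp Groth.Agent.QcohEt15 Groth.Agent.AlgSpace

section Span

variable {S : Scheme.{u}} {X : Sp S} {M : ModEt X} [M.IsQuasicoherent]
  (P : ∀ E : EtOver X, Submodule (Γo E) (sectModEt M E))
  (hP : ∀ (E E' : EtOver X) [IsAffine E.obj.left.left] [IsAffine E'.obj.left.left] (g : E' ⟶ E),
    spanT g (P E) = P E')

/-- The sections lying in a span stable family on all affine objects. -/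
noncomputable def famIn : M.val.Submodule where
  obj E :=
    { carrier := {s | ∀ (W : EtOver X) [IsAffine W.obj.left.left] (k : W ⟶ E.unop),
        res M k (show sectModEt M E.unop from s) ∈ P W}
      add_mem' := fun {a b} ha hb W _ k => by
        rw [map_add]
        exact (P W).add_mem (ha W k) (hb W k)
      zero_mem' := fun W _ k => by rw [map_zero]; exact (P W).zero_mem
      smul_mem' := fun r a ha W _ k => by
        change res M k ((ULift.down r : Γo E.unop) • (show sectModEt M E.unop from a)) ∈ P W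
        rw [res_smul]
        exact (P W).smul_mem _ (ha W k) }
  map {E E'} g := fun s hs W _ k => by
    change res M k (res M g.unop (show sectModEt M E.unop from s)) ∈ P W
    rw [← res_comp]
    exact hs W (k ≫ g.unop)

include hP in
theorem isLocalSub_famIn : IsLocalSub (famIn P) := by
  intro E s R hR h W _ k
  obtain ⟨κ, _, Z, g, hZ, hg, hcov⟩ := exists_affine_family (R.pullback k) ((etTop X).pullback_stable k hR)
  haveI := hZ
  refine mem_submodule_of_local (good_of_isQuasicoherent W) _ _ (Sieve.generate (Presieve.ofArrows Z g))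
    (ofArrows_mem_etTop Z g hcov) fun V _ l hl => ?_
  obtain ⟨_, a, _, ⟨i⟩, rfl⟩ := hl
  rw [← mem_spanT_iff, spanT_comp, res_comp, hP W (Z i) (g i)]
  refine res_mem_spanT a ?_
  have h1 : res M (𝟙 (Z i)) (res M (g i ≫ k) s) ∈ P (Z i) := h (g i ≫ k) (hg i) (Z i) (𝟙 _)
  rwa [res_id, res_comp] at h1

include hP in
/-- A span stable family is the family of sections of a quasi-coherent submodule. -/
theorem exists_spanSub :
    ∃ (G : ModEt X) (g : G ⟶ M), Mono g ∧ G.IsQuasicoherent ∧
      ∀ (E : EtOver X) [IsAffine E.obj.left.left], LinearMap.range (appₗ g E) = P E := by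
  let G := subMod (famIn P) (isLocalSub_famIn P hP)
  let ι : G ⟶ M := subι (famIn P) (isLocalSub_famIn P hP)
  haveI : Mono ι := by
    have : Mono ((SheafOfModules.forget (OEtRing X)).map ι) := inferInstanceAs (Mono (famIn P).ι)
    exact (SheafOfModules.forget (OEtRing X)).mono_of_mono_map this
  have hr : ∀ (E : EtOver X) [IsAffine E.obj.left.left], LinearMap.range (appₗ ι E) = P E := fun E _ => by
    refine le_antisymm ?_ fun s hs => ⟨⟨s, fun W _ k => (hP E W k).le (res_mem_spanT k hs)⟩, rfl⟩
    rintro _ ⟨s, rfl⟩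
    have := s.2 E (𝟙 E)
    rwa [res_id] at this
  refine ⟨G, ι, inferInstance, isQuasicoherent_of_good fun E _ E' _ g => ?_, hr⟩
  have := Tw.flat g
  have hE : Good M E := good_of_isQuasicoherent E
  refine ⟨fun a b e => ?_, fun w => ?_⟩
  · refine Module.Flat.lTensor_preserves_injective_linearMap (M := Tw g) _ (appₗ_injective ι E) ((hE g).1 ?_)
    rw [← lift_appₗ_id, ← lift_appₗ_id, e]
  · have hw : appₗ ι E' w ∈ spanT g (P E) := by
      rw [hP E E' g, ← hr E']
      exact ⟨w, rfl⟩
    obtain ⟨y, hy⟩ := (mem_spanT_iff g _ _).1 hw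
    let j : P E →ₗ[Γo E] sectModEt G E :=
      { toFun := fun s => (show sectModEt G E from ⟨s.1, fun W _ k => (hP E W k).le (res_mem_spanT k s.2)⟩)
        map_add' := fun a b => appₗ_injective ι E (by rw [map_add]; rfl)
        map_smul' := fun r a => appₗ_injective ι E (by rw [RingHom.id_apply, map_smul]; rfl) }
    refine ⟨j.lTensor (Tw g) y, appₗ_injective ι E' ?_⟩
    rw [lift_appₗ_id, ← LinearMap.lTensor_comp_apply,
      show appₗ ι E ∘ₗ j = (P E).subtype from LinearMap.ext fun _ => rfl, ← lift_ext_id, hy]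

end Span

section Unit

variable {S : Scheme.{u}} {X : Sp S}

/-- A function as a section of the structure module. -/
noncomputable def upU (E : EtOver X) (a : Γo E) : sectModEt (unitModEt X) E := ULift.up a

/-- A section of the structure module as a function. -/
noncomputable def downU {E : EtOver X} (s : sectModEt (unitModEt X) E) : Γo E := ULift.down s

theorem downU_smul {E : EtOver X} (r : Γo E) (s : sectModEt (unitModEt X) E) : downU (r • s) = r * downU s := rfl

theorem downU_res {E E' : EtOver X} (g : E' ⟶ E) (s : sectModEt (unitModEt X) E) :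
    downU (res (unitModEt X) g s) = γ g (downU s) := rfl

/-- An ideal as a submodule of sections of the structure module. -/
noncomputable def idealSub {E : EtOver X} (I : Ideal (Γo E)) : Submodule (Γo E) (sectModEt (unitModEt X) E) where
  carrier := {s | downU s ∈ I}
  add_mem' := fun ha hb => I.add_mem ha hb
  zero_mem' := I.zero_mem
  smul_mem' := fun r _ ha => I.mul_mem_left r ha

/-- A submodule of sections of the structure module as an ideal. -/
noncomputable def subIdl {E : EtOver X} (N : Submodule (Γo E) (sectModEt (unitModEt X) E)) : Ideal (Γo E) where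
  carrier := {a | upU E a ∈ N}
  add_mem' := fun ha hb => N.add_mem ha hb
  zero_mem' := N.zero_mem
  smul_mem' := fun r _ ha => N.smul_mem r ha

theorem spanT_idealSub {E E' : EtOver X} (g : E' ⟶ E) (I : Ideal (Γo E)) :
    spanT g (idealSub I) = idealSub (I.map (γ g)) := by
  refine le_antisymm ((spanT_le_iff _ _ _).2 fun s hs => ?_) fun s hs => ?_
  · exact Ideal.mem_map_of_mem _ hs
  · suffices key : ∀ b ∈ I.map (γ g), upU E' b ∈ spanT g (idealSub I) from key _ hs
    intro b hb
    induction hb using Submodule.span_induction with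
    | mem x hx =>
      obtain ⟨a, ha, rfl⟩ := hx
      exact res_mem_spanT g (show upU E a ∈ idealSub I from ha)
    | zero => exact (spanT g (idealSub I)).zero_mem
    | add x y _ _ hx hy => exact (spanT g (idealSub I)).add_mem hx hy
    | smul r x _ hx => exact (spanT g (idealSub I)).smul_mem r hx

theorem map_subIdl {E E' : EtOver X} (g : E' ⟶ E) (N : Submodule (Γo E) (sectModEt (unitModEt X) E)) :
    (subIdl N).map (γ g) = subIdl (spanT g N) := by
  have h := spanT_idealSub g (subIdl N)
  have hN : idealSub (subIdl N) = N := rfl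
  rw [hN] at h
  rw [h]
  rfl

end Unit

section Main

variable {S : Scheme.{u}}

attribute [local instance] FinLocFree14.isQuasicoherent_unit

/-- A quasi-compact open is the complement of a closed subspace cut out by a finite type ideal. -/
theorem exists_ideal [QuasiSeparatedSpace ↥S] (X : Space S)
    (hqc : IsQuasiCompactSp X.obj) (hqs : IsQuasiSeparatedSp X.obj)
    (U : Space S) (j : U ⟶ X) (hj : RepWith @IsOpenImmersion j.hom) (hU : IsQuasiCompactSp U.obj) :
    ∃ (I : IdealEt X.obj), I.IsQCoh ∧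
      (∀ (E : EtOver X.obj) (hE : IsAffine E.obj.left.left), (I.ideal E hE).FG) ∧
      ∃ (Z : Space S) (i : Z ⟶ X), IsCutOutBy I i.hom ∧
        Set.range (Points.map i.hom) = (Set.range (Points.map j.hom))ᶜ := by
  classical
  have hjqc : IsQuasiCompactMor j.hom := isQuasiCompactMor_of_qc_qs U.property X.property j.hom hU hqs
  have hT := QcohSub14.isQcClosed_compl_range X.property U.property hj hjqc
  obtain ⟨U₀, hU₀, hs⟩ := exists_charts X hqc
  haveI := hU₀
  let T := (Set.range (Points.map j.hom))ᶜ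
  have hTc : IsClosed T := by
    refine IsOpen.isClosed_compl ?_
    obtain ⟨W, p, hpe, hps⟩ := U.property.atlas
    have h : Set.range (Points.map j.hom) = Set.range (Points.ofPt (p ≫ j.hom)) := by
      rw [show Points.ofPt (p ≫ j.hom) = Points.map j.hom ∘ Points.ofPt p from
        funext fun w => (Points.map_ofPt p j.hom w).symm, (surjective_ofPt hps).range_comp]
    rw [h]
    exact (isOpenMap_ofPt _ (repWith_comp hpe (repWith_mono
      (fun _ _ g (_ : IsOpenImmersion g) => (inferInstance : Etale g)) hj))).isOpen_range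
  obtain ⟨Z₀, i₀, hi₀⟩ := AlgSpDecent.RedInduced.exists_isRedInduced X T hTc
  let J := idealOfRep hi₀.1.1
  have hJ : J.IsQCoh := SchImage14.isQCoh_idealOfRep_of_closed hi₀.1
  let PJ : ∀ E : EtOver X.obj, Submodule (Γo E) (sectModEt (unitModEt X.obj) E) := fun E =>
    if hE : IsAffine E.obj.left.left then idealSub (J.ideal E hE) else ⊥
  have hPJ : ∀ (E : EtOver X.obj) [hE : IsAffine E.obj.left.left], PJ E = idealSub (J.ideal E hE) :=
    fun E hE => dif_pos hE
  obtain ⟨G, g, hg, hGq, hGr⟩ := exists_spanSub PJ fun E E' hE hE' k => by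
    rw [hPJ, hPJ, spanT_idealSub]
    exact congrArg idealSub (SchImage14.ideal_map_eq hJ k hE hE')
  haveI := hGq
  obtain ⟨s, hs₀⟩ := hT U₀ hU₀
  have hmem : ∀ a : s, ∃ P : Fam G, ∃ x ∈ P.P U₀, appₗ g U₀ x = upU U₀ a.1 := fun a => by
    have haJ : a.1 ∈ J.ideal U₀ hU₀ := by
      change (EtOver.bcπ hi₀.1.1 U₀).left.appTop.hom a.1 = 0
      haveI := IntSect15.isReduced_left hi₀.2.2 (EtOver.bcObj hi₀.1.1 U₀)
      refine (AlgebraicGeometry.basicOpen_eq_bot_iff _).1 ?_
      rw [← Scheme.preimage_basicOpen_top]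
      refine eq_bot_iff.2 fun v hv => ?_
      have h1 : Points.ofPt U₀.obj.hom ((EtOver.bcπ hi₀.1.1 U₀).left v) ∈ T := by
        exact hi₀.2.1.le ⟨_, ofPt_sq (EtOver.isPullback_bcObj hi₀.1.1 U₀).w v⟩
      exact ((hs₀ _).2 ⟨a.1, a.2, hv⟩ h1).elim
    obtain ⟨x, hx⟩ : upU U₀ a.1 ∈ LinearMap.range (appₗ g U₀) := by
      rw [hGr, hPJ]
      exact haJ
    obtain ⟨P, hP⟩ := exists_fam X hqc hqs U₀ x
    exact ⟨P, x, hP, hx⟩
  choose P x hx hxa using hmem
  obtain ⟨Q, hQ⟩ := Fam.exists_upper P
  let N : ∀ E : EtOver X.obj, Submodule (Γo E) (sectModEt (unitModEt X.obj) E) := fun E =>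
    (Q.P E).map (appₗ g E)
  have hN : ∀ (E E' : EtOver X.obj) [IsAffine E.obj.left.left] [IsAffine E'.obj.left.left] (k : E' ⟶ E),
      spanT k (N E) = N E' := fun E E' _ _ k => by
    refine le_antisymm ((spanT_le_iff _ _ _).2 ?_) ?_
    · rintro _ ⟨y, hy, rfl⟩
      exact ⟨res G k y, Q.res_mem k hy, appₗ_res g k y⟩
    · rw [Submodule.map_le_iff_le_comap, ← Q.span E E' k, spanT_le_iff]
      intro y hy
      change appₗ g E' (res G k y) ∈ spanT k (N E)
      rw [appₗ_res]
      exact res_mem_spanT k ⟨y, hy, rfl⟩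
  let I : IdealEt X.obj :=
    { ideal := fun E _ => subIdl (N E)
      map_le := fun {E E'} k hE hE' => by
        change (subIdl (N E)).map (γ k) ≤ subIdl (N E')
        rw [map_subIdl, hN] }
  have hI : I.IsQCoh := fun E E' k hE hE' => by
    change subIdl (N E') ≤ (subIdl (N E)).map (γ k)
    rw [map_subIdl, hN]
  refine ⟨I, hI, fun E hE => ?_, ?_⟩
  · obtain ⟨t, ht⟩ := (Q.fg E).map (appₗ g E)
    refine ⟨t.image downU, le_antisymm (Ideal.span_le.2 ?_) fun a (ha : upU E a ∈ N E) => ?_⟩
    · intro b hb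
      obtain ⟨y, hy, rfl⟩ := Finset.mem_image.1 hb
      exact ht.le (Submodule.subset_span hy)
    · have hle : N E ≤ idealSub (Ideal.span (t.image downU : Set (Γo E))) := by
        rw [show N E = Submodule.span (Γo E) (t : Set _) from ht.symm, Submodule.span_le]
        exact fun y hy => Ideal.subset_span (Finset.mem_coe.2 (Finset.mem_image_of_mem _ hy))
      exact hle ha
  obtain ⟨Z, i, hi⟩ := SchImage14.exists_isCutOutBy X I hI
  refine ⟨Z, i, hi, Set.ext fun p => ?_⟩
  obtain ⟨v, rfl⟩ := hs p
  obtain ⟨hic, hiI⟩ := hi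
  rw [mem_range_map_iff hic U₀ v, hiI]
  constructor
  · intro h hv
    obtain ⟨a, ha, hva⟩ := (hs₀ v).1 (fun h' => h' hv)
    refine (mem_primeAtPt_iff_notMem_basicOpen a v).1 (h ?_) hva
    exact ⟨x ⟨a, ha⟩, hQ ⟨a, ha⟩ U₀ (hx ⟨a, ha⟩), hxa ⟨a, ha⟩⟩
  · intro hv a ha
    have h0 := (mem_range_map_iff hi₀.1 U₀ v).1 (hi₀.2.1 ▸ hv)
    refine h0 ?_
    obtain ⟨y, -, hy⟩ := ha
    have : upU U₀ a ∈ PJ U₀ := by rw [← hGr U₀]; exact ⟨y, hy⟩
    rw [hPJ] at this
    exact this

/-- The complement of a closed subspace cut out by a finite type ideal is quasi-compact. -/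
theorem isQuasiCompactSp_of_ideal (X : Space S) (hqc : IsQuasiCompactSp X.obj)
    (U : Space S) (j : U ⟶ X) (hj : RepWith @IsOpenImmersion j.hom) [QuasiSeparatedSpace ↥S]
    (I : IdealEt X.obj) (hft : ∀ (E : EtOver X.obj) (hE : IsAffine E.obj.left.left), (I.ideal E hE).FG)
    (Z : Space S) (i : Z ⟶ X) (hi : IsCutOutBy I i.hom)
    (hr : Set.range (Points.map i.hom) = (Set.range (Points.map j.hom))ᶜ) : IsQuasiCompactSp U.obj := by
  obtain ⟨U₀, hU₀, hs⟩ := exists_charts X hqc
  haveI := hU₀
  obtain ⟨hic, hiI⟩ := hi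
  obtain ⟨t, ht⟩ := hft U₀ hU₀
  rw [Induction15.isQuasiCompactSp_iff_isCompact_range hj]
  have h : Set.range (Points.map j.hom) = Points.ofPt U₀.obj.hom ''
      ⋃ a ∈ t, (U₀.obj.left.left.basicOpen a : Set ↥U₀.obj.left.left) := by
    ext p
    obtain ⟨v, rfl⟩ := hs p
    have hiff : ∀ w, Points.ofPt U₀.obj.hom w ∈ Set.range (Points.map j.hom) ↔
        ∃ a ∈ t, w ∈ U₀.obj.left.left.basicOpen a := fun w => by
      rw [← not_iff_not, ← Set.mem_compl_iff, ← hr, mem_range_map_iff hic U₀ w, hiI]
      refine ⟨fun h ⟨a, ha, hwa⟩ => (mem_primeAtPt_iff_notMem_basicOpen a w).1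
        (h (ht.le (Submodule.subset_span ha))) hwa, fun h => ?_⟩
      rw [← ht, Ideal.span_le]
      exact fun a ha => (mem_primeAtPt_iff_notMem_basicOpen a w).2 fun hw => h ⟨a, ha, hw⟩
    simp only [Set.mem_image, Set.mem_iUnion₂, SetLike.mem_coe]
    constructor
    · intro h
      obtain ⟨a, ha, hva⟩ := (hiff v).1 h
      exact ⟨v, ⟨a, ha, hva⟩, rfl⟩
    · rintro ⟨w, ⟨a, ha, hwa⟩, hw⟩
      rw [← hw]
      exact (hiff w).2 ⟨a, ha, hwa⟩
  rw [h]
  exact (t.isCompact_biUnion fun a _ => ((isAffineOpen_top U₀.obj.left.left).basicOpen a).isCompact).image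
    (Points.continuous_ofPt U₀.obj.hom)

end Main

end Groth.Agent.QcohExt14
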