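import Groth.Agent.Lib.QcohExt14.Data
import Groth.Agent.Lib.QcohEt15.WeakAss

/-!
# Enlarging the family by one chart, and the submodule of a covering family
-/

universe u

set_option linter.style.haveILetI false
set_option backward.isDefEq.respectTransparency false
set_option backward.isDefEq.respectTransparency.types false

open CategoryTheory CategoryTheory.Limits AlgebraicGeometry Opposite TensorProduct

namespace Groth.Agent.QcohExt14

open AlgSp Groth.Agent.QcohEt15 Groth.Agent.AlgSpace

variable {S : Scheme.{u}} {X : Sp S} {M : ModEt X}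

/-- One data extends another. -/
def Data.LE (d d' : Data M) : Prop :=
  ∃ e : d.I → d'.I, ∀ i, ∀ (W : EtOver X) [IsAffine W.obj.left.left] (a : W ⟶ d.C i),
    ∃ b : W ⟶ d'.C (e i), spanT a (d.N i) = spanT b (d'.N (e i))

theorem Data.LE.refl (d : Data M) : d.LE d := ⟨id, fun _ _ _ a => ⟨a, rfl⟩⟩

theorem Data.LE.trans {d d' d'' : Data M} (h : d.LE d') (h' : d'.LE d'') : d.LE d'' := by
  obtain ⟨e, he⟩ := h
  obtain ⟨e', he'⟩ := h'
  refine ⟨e' ∘ e, fun i W _ a => ?_⟩
  obtain ⟨b, hb⟩ := he i W a
  obtain ⟨c, hc⟩ := he' (e i) W b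
  exact ⟨c, hb.trans hc⟩

theorem Data.LE.range_subset {d d' : Data M} (h : d.LE d') : d.range ⊆ d'.range := by
  obtain ⟨e, he⟩ := h
  refine Set.iUnion_subset fun i => ?_
  rintro _ ⟨v, rfl⟩
  obtain ⟨b, -⟩ := he i (d.C i) (𝟙 _)
  refine Set.mem_iUnion.2 ⟨e i, b.hom.left.left v, ?_⟩
  rw [← EtOver.w b]
  exact (AlgSpDecent.ofPt_map_comp _ _ _).symm

/-- Adjoining a chart whose self-overlaps are diagonal away from the covered part, together with finitely many
prescribed sections on it. -/
theorem exists_adjoin [QuasiSeparatedSpace ↥S] [M.IsQuasicoherent] (hqs : IsQuasiSeparatedSp X) (d : Data M)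
    (V : EtOver X) [IsAffine V.obj.left.left] (F : Finset (sectModEt M V))
    (hFin : ∀ s ∈ F, d.In s)
    (hV : ∀ (Z : EtOver X) (a b : Z ⟶ V) (z : ↥Z.obj.left.left), Points.ofPt Z.obj.hom z ∉ d.range →
      ∃ (W : EtOver X) (_ : IsAffine W.obj.left.left) (k : W ⟶ Z),
        z ∈ Set.range k.hom.left.left ∧ k ≫ a = k ≫ b) :
    ∃ d' : Data M, d.LE d' ∧ Set.range (Points.ofPt V.obj.hom) ⊆ d'.range ∧ ∀ s ∈ F, d'.In s := by
  classical
  choose κ hκ W hW k t hc using fun i => exists_pair_cover hqs V (d.C i)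
  have hfin : ∀ q : (Σ i, κ i), ∃ G : Finset (sectModEt M V), (G : Set (sectModEt M V)) ⊆ d.inSub V ∧
      spanT (t q.1 q.2) (d.N q.1) ≤ spanT (k q.1 q.2) (Submodule.span (Γo V) (G : Set (sectModEt M V))) := by
    intro q
    have := hW q.1 q.2
    have hle : spanT (t q.1 q.2) (d.N q.1) ≤ spanT (k q.1 q.2) (d.inSub V) :=
      (d.spanT_le_inSub _).trans (d.inSub_le_spanT hqs (k q.1 q.2))
    obtain ⟨F, hF⟩ := spanT_fg (t q.1 q.2) (d.fg q.1)
    have hx : ∀ x : F, ∃ G : Finset (sectModEt M V), (G : Set (sectModEt M V)) ⊆ d.inSub V ∧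
        x.1 ∈ spanT (k q.1 q.2) (Submodule.span (Γo V) (G : Set (sectModEt M V))) := fun x => by
      have hx0 : x.1 ∈ spanT (k q.1 q.2) (d.inSub V) := hle (hF.le (Submodule.subset_span x.2))
      obtain ⟨G, hG, hxG⟩ := Submodule.mem_span_finite_of_mem_span (R := Γo (W q.1 q.2))
        (S := res M (k q.1 q.2) '' (d.inSub V : Set (sectModEt M V))) hx0
      obtain ⟨G', hG', he⟩ := Finset.subset_set_image_iff.1 hG
      refine ⟨G', hG', Submodule.span_mono ?_ hxG⟩
      rw [← he, Finset.coe_image]
      exact Set.image_mono Submodule.subset_span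
    choose G hG hxG using hx
    refine ⟨Finset.univ.biUnion G, ?_, ?_⟩
    · rw [Finset.coe_biUnion]
      exact Set.iUnion₂_subset fun x _ => hG x
    · rw [← hF, Submodule.span_le]
      intro x hx
      let x' : F := ⟨x, hx⟩
      have h1 : (G x' : Set (sectModEt M V)) ⊆ (Finset.univ.biUnion G : Finset _) :=
        Finset.coe_subset.2 (Finset.subset_biUnion_of_mem G (Finset.mem_univ x'))
      exact spanT_mono (k q.1 q.2) (Submodule.span_mono h1) (hxG x')
  choose G hG hle using hfin
  have := Fintype.ofFinite (Σ i, κ i)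
  let N := Submodule.span (Γo V) ((F ∪ Finset.univ.biUnion G : Finset _) : Set (sectModEt M V))
  have hNin : N ≤ d.inSub V := by
    rw [Submodule.span_le, Finset.coe_union, Finset.coe_biUnion]
    exact Set.union_subset (fun s hs => hFin s hs) (Set.iUnion₂_subset fun q _ => hG q)
  have hkt : ∀ q : (Σ i, κ i), spanT (k q.1 q.2) N = spanT (t q.1 q.2) (d.N q.1) := fun q => by
    have := hW q.1 q.2
    refine le_antisymm ((spanT_le_iff _ _ _).2 fun s hs => ?_) ((hle q).trans (spanT_mono _ (Submodule.span_mono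
      (Finset.coe_subset.2 ((Finset.subset_biUnion_of_mem G (Finset.mem_univ q)).trans Finset.subset_union_right)))))
    exact (d.in_iff s).1 (hNin hs) q.1 _ (k q.1 q.2) (t q.1 q.2)
  have hmix : ∀ i (Z : EtOver X) [IsAffine Z.obj.left.left] (a : Z ⟶ V) (b : Z ⟶ d.C i),
      spanT a N = spanT b (d.N i) := fun i Z _ a b => by
    refine spanT_le_of_local _ _ fun z => ?_
    obtain ⟨l₀, Z', hZ', l, l', hz, hk, ht⟩ := hc i Z a b z
    refine ⟨Z', hZ', l, hz, ?_⟩
    rw [← spanT_comp, ← spanT_comp, ← hk, ← ht, spanT_comp, spanT_comp]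
    exact congrArg (spanT l') (hkt ⟨i, l₀⟩)
  have hself : ∀ (Z : EtOver X) [IsAffine Z.obj.left.left] (a b : Z ⟶ V), spanT a N = spanT b N := fun Z _ a b => by
    refine spanT_le_of_local _ _ fun z => ?_
    by_cases hz : Points.ofPt Z.obj.hom z ∈ d.range
    · obtain ⟨i, u₀, hu⟩ := Set.mem_iUnion.1 hz
      obtain ⟨W', hW', k₁, k₂, w, hw, -⟩ := exists_common_affine z u₀ hu.symm
      refine ⟨W', hW', k₁, ⟨w, hw⟩, ?_⟩
      rw [← spanT_comp, ← spanT_comp, hmix i W' (k₁ ≫ a) k₂, hmix i W' (k₁ ≫ b) k₂]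
    · obtain ⟨W', hW', l, hl, e⟩ := hV Z a b z hz
      exact ⟨W', hW', l, hl, by rw [← spanT_comp, ← spanT_comp, e]⟩
  let d' : Data M :=
    { I := Option d.I
      fin := inferInstance
      C := fun o => o.elim V d.C
      aff := fun o => match o with
        | none => (inferInstance : IsAffine V.obj.left.left)
        | some i => d.aff i
      N := fun o => match o with
        | none => N
        | some i => d.N i
      fg := fun o => match o with
        | none => Submodule.fg_span (Finset.finite_toSet _)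
        | some i => d.fg i
      compat := fun o o' W _ a b => match o, o' with
        | none, none => hself W a b
        | none, some j => hmix j W a b
        | some i, none => (hmix i W b a).symm
        | some i, some j => d.compat i j W a b }
  refine ⟨d', ⟨some, fun i W _ a => ⟨a, rfl⟩⟩, fun x hx => Set.mem_iUnion.2 ⟨none, hx⟩, fun s hs => ?_⟩
  haveI : IsAffine (d'.C none).obj.left.left := ‹IsAffine V.obj.left.left›
  refine d'.spanT_le_inSub (i := none) (𝟙 V) ?_
  exact (spanT_id N).ge (Submodule.subset_span (Finset.mem_coe.2 (Finset.mem_union_left _ hs)))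

/-! ### The submodule of a family -/

/-- The family of submodules. -/
noncomputable def Data.inPre (d : Data M) : M.val.Submodule where
  obj E :=
    { carrier := {s | d.In (show sectModEt M E.unop from s)}
      add_mem' := fun {a b} ha hb i => (locObj (d.N i) E.unop).add_mem (ha i) (hb i)
      zero_mem' := fun i => (locObj (d.N i) E.unop).zero_mem
      smul_mem' := fun r {a} ha i => (locObj (d.N i) E.unop).smul_mem r (ha i) }
  map {E E'} g := fun s hs => Data.In.res' hs g.unop

theorem Data.isLocalSub_inPre [M.IsQuasicoherent] (d : Data M) : IsLocalSub d.inPre :=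
  fun E s R hR h i => inLoc_of_local (d.N i) (good_of_isQuasicoherent _) s R hR fun Y g hg => h g hg i

/-- The submodule cut out by the family. -/
noncomputable def Data.mod [M.IsQuasicoherent] (d : Data M) : ModEt X := subMod d.inPre d.isLocalSub_inPre

/-- Its inclusion. -/
noncomputable def Data.modι [M.IsQuasicoherent] (d : Data M) : d.mod ⟶ M := subι d.inPre d.isLocalSub_inPre

instance [M.IsQuasicoherent] (d : Data M) : Mono d.modι := by
  have : Mono ((SheafOfModules.forget (OEtRing X)).map d.modι) := inferInstanceAs (Mono d.inPre.ι)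
  exact (SheafOfModules.forget (OEtRing X)).mono_of_mono_map this

theorem Data.range_modι [M.IsQuasicoherent] (d : Data M) (E : EtOver X) :
    LinearMap.range (appₗ d.modι E) = d.inSub E := by
  ext s
  exact ⟨fun ⟨w, hw⟩ => hw ▸ w.2, fun h => ⟨⟨s, h⟩, rfl⟩⟩

theorem Data.good_mod [QuasiSeparatedSpace ↥S] [M.IsQuasicoherent] (hqs : IsQuasiSeparatedSp X) (d : Data M)
    (E : EtOver X) [IsAffine E.obj.left.left] : Good d.mod E := by
  intro E' _ g
  have := Tw.flat g
  have hE : Good M E := good_of_isQuasicoherent E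
  refine ⟨fun a b e => ?_, fun w => ?_⟩
  · refine Module.Flat.lTensor_preserves_injective_linearMap (M := Tw g) _ (appₗ_injective d.modι E) ((hE g).1 ?_)
    rw [← lift_appₗ_id, ← lift_appₗ_id, e]
  · have hw : appₗ d.modι E' w ∈ spanT g (d.inSub E) :=
      d.inSub_le_spanT hqs g ((d.range_modι E').le ⟨w, rfl⟩)
    obtain ⟨y, hy⟩ := (mem_spanT_iff g _ _).1 hw
    let j : d.inSub E →ₗ[Γo E] sectModEt d.mod E :=
      { toFun := fun s => (show sectModEt d.mod E from ⟨s.1, s.2⟩)
        map_add' := fun a b => appₗ_injective d.modι E (by rw [map_add]; rfl)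
        map_smul' := fun r a => appₗ_injective d.modι E (by rw [RingHom.id_apply, map_smul]; rfl) }
    refine ⟨j.lTensor (Tw g) y, appₗ_injective d.modι E' ?_⟩
    rw [lift_appₗ_id, ← LinearMap.lTensor_comp_apply,
      show appₗ d.modι E ∘ₗ j = (d.inSub E).subtype from LinearMap.ext fun _ => rfl, ← lift_ext_id, hy]

theorem Data.isQuasicoherent_mod [QuasiSeparatedSpace ↥S] [M.IsQuasicoherent] (hqs : IsQuasiSeparatedSp X)
    (d : Data M) : d.mod.IsQuasicoherent :=
  isQuasicoherent_of_good fun E _ => d.good_mod hqs E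

theorem Data.finite_chart [M.IsQuasicoherent] (d : Data M) {i : d.I} {W : EtOver X} [IsAffine W.obj.left.left]
    (t : W ⟶ d.C i) : Module.Finite (Γo W) (sectModEt d.mod W) := by
  have : Module.Finite (Γo W) (spanT t (d.N i)) := Module.Finite.iff_fg.2 (spanT_fg t (d.fg i))
  have : Module.Finite (Γo W) (LinearMap.range (appₗ d.modι W)) := by
    rw [d.range_modι, d.inSub_eq_spanT t]
    infer_instance
  exact Module.Finite.equiv (LinearEquiv.ofInjective _ (appₗ_injective d.modι W)).symm

theorem Data.isFiniteType_mod [QuasiSeparatedSpace ↥S] [M.IsQuasicoherent] (hqs : IsQuasiSeparatedSp X)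
    (d : Data M) (hd : d.range = Set.univ) : d.mod.IsFiniteType := by
  have hf : ∀ (E : EtOver X) [IsAffine E.obj.left.left], Module.Finite (Γo E) (sectModEt d.mod E) := fun E _ => by
    have hx : ∀ v : ↥E.obj.left.left, ∃ i, ∃ u₀ : ↥(d.C i).obj.left.left,
        Points.ofPt (d.C i).obj.hom u₀ = Points.ofPt E.obj.hom v := fun v =>
      Set.mem_iUnion.1 (hd.ge (Set.mem_univ (Points.ofPt E.obj.hom v)))
    choose i u₀ hu using hx
    choose W hW k₁ k₂ w hw₁ hw₂ using fun v => exists_common_affine v (u₀ v) (hu v).symm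
    refine finite_of_cover (d.good_mod hqs E) (Sieve.generate (Presieve.ofArrows W k₁))
      (ofArrows_mem_etTop W k₁ fun v => ⟨v, w v, hw₁ v⟩) fun Z _ g hg => ?_
    obtain ⟨Y, a, b, ⟨v⟩, rfl⟩ := hg
    exact d.finite_chart (a ≫ k₂ v)
  exact isFiniteType_of_good_of_finite (fun E _ => d.good_mod hqs E) hf

end Groth.Agent.QcohExt14
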